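import Mathlib
import Cfsg.Agent.H198.FC.Defs
import Cfsg.Agent.H786.FC.Parts
import Cfsg.Agent.H198.FC.DefsB
import Cfsg.Agent.H976.FC.Rigid
import Cfsg.Agent.S0752
import Cfsg.Agent.H786.FC.PartsC4
set_option linter.all false

-- part: H173/FC/Quat
section
/-!
# S5764, L-C6, n = 2 (helper173): quaternions

`IsQ z` : `z ∈ {±i, ±j, ±k}`.  `Fr F` : the ring endomorphism `F` of `ℍ[K]` maps `i, j, k` into this set.
* `rigid_big` : `K` not prime, four elements of norm 1 such that only `F = 1` satisfies `Fr` for `F` and the four conjugates;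
* the prime case is prepared by `not_isQ`.
-/

set_option autoImplicit false

namespace Cfsg.Agent.H173.FC

open Quaternion

variable {K : Type*} [Field K]

/-- quaternion with given coordinates -/
def q4 (a b c d : K) : ℍ[K] := ⟨a, b, c, d⟩

@[simp] theorem q4_re (a b c d : K) : (q4 a b c d).re = a := rfl
@[simp] theorem q4_imI (a b c d : K) : (q4 a b c d).imI = b := rfl
@[simp] theorem q4_imJ (a b c d : K) : (q4 a b c d).imJ = c := rfl
@[simp] theorem q4_imK (a b c d : K) : (q4 a b c d).imK = d := rfl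

/-- `z ∈ {±i, ±j, ±k}` -/
def IsQ (z : ℍ[K]) : Prop :=
  z.re = 0 ∧ ((z.imI ^ 2 = 1 ∧ z.imJ = 0 ∧ z.imK = 0) ∨ (z.imI = 0 ∧ z.imJ ^ 2 = 1 ∧ z.imK = 0) ∨
    (z.imI = 0 ∧ z.imJ = 0 ∧ z.imK ^ 2 = 1))

/-- `i`, `j`, `k` -/
def qI : ℍ[K] := q4 0 1 0 0
def qJ : ℍ[K] := q4 0 0 1 0
def qK : ℍ[K] := q4 0 0 0 1

/-- `F` permutes the six elements -/
structure Fr (F : ℍ[K] →+* ℍ[K]) : Prop where
  i : IsQ (F qI)
  j : IsQ (F qJ)
  k : IsQ (F qK)

/-- the conjugate of `F` by `x` (of norm 1) permutes the six elements -/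
def FrC (F : ℍ[K] →+* ℍ[K]) (x : ℍ[K]) : Prop :=
  ∀ v : ℍ[K], (v = qI ∨ v = qJ ∨ v = qK) → IsQ (x * F (star x * v * x) * star x)

theorem ns_eq (x : ℍ[K]) : normSq x = x.re ^ 2 + x.imI ^ 2 + x.imJ ^ 2 + x.imK ^ 2 := normSq_def' x

theorem mul_star_one {x : ℍ[K]} (h : normSq x = 1) : x * star x = 1 := by
  rw [self_mul_star, h]
  rfl

theorem star_mul_one {x : ℍ[K]} (h : normSq x = 1) : star x * x = 1 := by
  rw [star_mul_self, h]
  rfl

/-- the conjugate -/
def cF (F : ℍ[K] →+* ℍ[K]) (x : ℍ[K]) (h : normSq x = 1) : ℍ[K] →+* ℍ[K] where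
  toFun z := x * F (star x * z * x) * star x
  map_one' := by
    rw [mul_one, star_mul_one h, map_one, mul_one, mul_star_one h]
  map_mul' a b := by
    have h1 : star x * (a * b) * x = star x * a * x * (star x * b * x) := by
      calc star x * (a * b) * x = star x * a * 1 * b * x := by rw [mul_one, ← mul_assoc]
        _ = star x * a * (x * star x) * b * x := by rw [mul_star_one h]
        _ = star x * a * x * (star x * b * x) := by simp only [mul_assoc]
    have h2 : x * F (star x * (a * b) * x) * star x =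
        x * F (star x * a * x) * 1 * F (star x * b * x) * star x := by
      rw [h1, map_mul, mul_one]
      simp only [mul_assoc]
    rw [h2, ← star_mul_one h]
    simp only [mul_assoc]
  map_zero' := by simp
  map_add' a b := by
    rw [mul_add, add_mul, map_add, mul_add, add_mul]

theorem cF_apply (F : ℍ[K] →+* ℍ[K]) (x : ℍ[K]) (h : normSq x = 1) (z : ℍ[K]) :
    cF F x h z = x * F (star x * z * x) * star x := rfl

theorem Fr.of (F : ℍ[K] →+* ℍ[K]) (x : ℍ[K]) (h : normSq x = 1) (hF : FrC F x) : Fr (cF F x h) :=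
  ⟨hF _ (Or.inl rfl), hF _ (Or.inr (Or.inl rfl)), hF _ (Or.inr (Or.inr rfl))⟩

/-! ### the prime field -/

section P
variable (p : ℕ) [Fact p.Prime] [CharP K p]

/-- the prime field -/
def PF : Subfield K := (ZMod.castHom (dvd_refl p) K).fieldRange

theorem mem_PF {a : K} : a ∈ PF (K := K) p ↔ ∃ n : ℤ, (n : K) = a := by
  unfold PF
  rw [RingHom.mem_fieldRange]
  constructor
  · rintro ⟨x, rfl⟩
    obtain ⟨n, rfl⟩ := ZMod.intCast_surjective x
    exact ⟨n, by rw [map_intCast]⟩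
  · rintro ⟨n, rfl⟩
    exact ⟨(n : ZMod p), by rw [map_intCast]⟩

theorem exists_sq (K : Type*) [Field K] [CharP K p] : ∃ m n : ℤ, (m : K) ^ 2 + (n : K) ^ 2 + 1 = 0 := by
  obtain ⟨a, b, h⟩ := ZMod.sq_add_sq p (-1)
  obtain ⟨m, rfl⟩ := ZMod.intCast_surjective a
  obtain ⟨n, rfl⟩ := ZMod.intCast_surjective b
  refine ⟨m, n, ?_⟩
  have h1 := congrArg (ZMod.castHom (dvd_refl p) K) h
  rw [map_add, map_pow, map_pow, map_intCast, map_intCast, map_neg, map_one] at h1
  rw [h1]
  ring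

/-- all coordinates in the prime field -/
def R0 (z : ℍ[K]) : Prop := z.re ∈ PF (K := K) p ∧ z.imI ∈ PF (K := K) p ∧ z.imJ ∈ PF (K := K) p ∧ z.imK ∈ PF (K := K) p

variable {p}

theorem IsQ.sq {a : K} (h : a ^ 2 = 1) : a ∈ PF (K := K) p := by
  have h1 : (a - 1) * (a + 1) = 0 := by linear_combination h
  rcases mul_eq_zero.1 h1 with h2 | h2
  · rw [sub_eq_zero.1 h2]
    exact one_mem _
  · rw [eq_neg_of_add_eq_zero_left h2]
    exact neg_mem (one_mem _)

theorem IsQ.R0 {z : ℍ[K]} (h : IsQ z) : R0 p z := by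
  obtain ⟨h0, ⟨h1, h2, h3⟩ | ⟨h1, h2, h3⟩ | ⟨h1, h2, h3⟩⟩ := h
  · exact ⟨by rw [h0]; exact zero_mem _, IsQ.sq h1, by rw [h2]; exact zero_mem _, by rw [h3]; exact zero_mem _⟩
  · exact ⟨by rw [h0]; exact zero_mem _, by rw [h1]; exact zero_mem _, IsQ.sq h2, by rw [h3]; exact zero_mem _⟩
  · exact ⟨by rw [h0]; exact zero_mem _, by rw [h1]; exact zero_mem _, by rw [h2]; exact zero_mem _, IsQ.sq h3⟩

theorem R0.add {z w : ℍ[K]} (hz : R0 p z) (hw : R0 p w) : R0 p (z + w) :=
  ⟨add_mem hz.1 hw.1, add_mem hz.2.1 hw.2.1, add_mem hz.2.2.1 hw.2.2.1, add_mem hz.2.2.2 hw.2.2.2⟩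

theorem R0.int (n : ℤ) : R0 p ((n : ℤ) : ℍ[K]) := by
  refine ⟨?_, ?_, ?_, ?_⟩ <;> simp [zero_mem]

theorem R0.intmul (n : ℤ) {z : ℍ[K]} (hz : R0 p z) : R0 p ((n : ℍ[K]) * z) := by
  have hn : (n : K) ∈ PF (K := K) p := intCast_mem _ n
  refine ⟨?_, ?_, ?_, ?_⟩ <;> simp only [re_mul, imI_mul, imJ_mul, imK_mul, re_intCast, imI_intCast, imJ_intCast,
    imK_intCast, zero_mul, sub_zero, add_zero]
  · exact mul_mem hn hz.1
  · exact mul_mem hn hz.2.1
  · exact mul_mem hn hz.2.2.1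
  · exact mul_mem hn hz.2.2.2

theorem exists_int {z : ℍ[K]} (hz : R0 p z) : ∃ a b c d : ℤ, z = (a : ℍ[K]) + (b : ℍ[K]) * qI + (c : ℍ[K]) * qJ + (d : ℍ[K]) * qK := by
  obtain ⟨h0, h1, h2, h3⟩ := hz
  obtain ⟨a, ha⟩ := (mem_PF p).1 h0
  obtain ⟨b, hb⟩ := (mem_PF p).1 h1
  obtain ⟨c, hc⟩ := (mem_PF p).1 h2
  obtain ⟨d, hd⟩ := (mem_PF p).1 h3
  refine ⟨a, b, c, d, ?_⟩
  ext <;> simp [qI, qJ, qK, ha, hb, hc, hd]

theorem Fr.R0 {F : ℍ[K] →+* ℍ[K]} (hF : Fr F) {z : ℍ[K]} (hz : R0 p z) : R0 p (F z) := by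
  obtain ⟨a, b, c, d, rfl⟩ := exists_int hz
  simp only [map_add, map_mul, map_intCast]
  exact (((R0.int a).add (R0.intmul b hF.i.R0)).add (R0.intmul c hF.j.R0)).add (R0.intmul d hF.k.R0)

end P


/-! ### non-prime fields -/

section Big
variable {p : ℕ} [Fact p.Prime] [CharP K p]

theorem eq_zero_of_mul {γ v : K} (hγ : γ ∉ PF (K := K) p) (hv : v ∈ PF (K := K) p) (h : γ * v ∈ PF (K := K) p) : v = 0 := by
  by_contra h0
  apply hγ
  have h1 : γ = γ * v * v⁻¹ := by field_simp
  rw [h1]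
  exact mul_mem h (inv_mem hv)

/-- the unipotent element `1 + γ w` -/
def un (γ a b c : K) : ℍ[K] := q4 1 (γ * a) (γ * b) (γ * c)

theorem un_ns {γ a b c : K} (h : a ^ 2 + b ^ 2 + c ^ 2 = 0) : normSq (un γ a b c) = 1 := by
  rw [ns_eq]
  simp only [un, q4_re, q4_imI, q4_imJ, q4_imK]
  linear_combination γ ^ 2 * h

/-- an isotropic vector over the prime field is mapped to a multiple of itself -/
theorem eps (h2 : (2 : K) ≠ 0) {F : ℍ[K] →+* ℍ[K]} (hF : Fr F) {γ α β : K} (hγ : γ ∉ PF (K := K) p)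
    (hα : α ∈ PF (K := K) p) (hβ : β ∈ PF (K := K) p) (hw : (1 : K) ^ 2 + α ^ 2 + β ^ 2 = 0)
    (hx : FrC F (un γ 1 α β)) : ∃ b : K, F (q4 0 1 α β) = q4 0 b (b * α) (b * β) := by
  have h2P : (2 : K) ∈ PF (K := K) p := by
    have := intCast_mem (PF (K := K) p) 2
    exact_mod_cast this
  have hwR : R0 p (q4 0 1 α β) := ⟨zero_mem _, one_mem _, hα, hβ⟩
  obtain ⟨w', hw'⟩ : ∃ w', F (q4 0 1 α β) = w' := ⟨_, rfl⟩
  have hR : R0 p w' := by rw [← hw']; exact hF.R0 hwR
  have hsq : w' * w' = 0 := by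
    rw [← hw', ← map_mul]
    have : (q4 0 1 α β : ℍ[K]) * q4 0 1 α β = 0 := by
      ext <;> simp <;> ring_nf
      linear_combination -hw
    rw [this, map_zero]
  obtain ⟨a, b, c, d, rfl⟩ : ∃ a b c d : K, w' = q4 a b c d := ⟨w'.re, w'.imI, w'.imJ, w'.imK, rfl⟩
  have e0 := congrArg QuaternionAlgebra.re hsq
  have e1 := congrArg QuaternionAlgebra.imI hsq
  have e2 := congrArg QuaternionAlgebra.imJ hsq
  have e3 := congrArg QuaternionAlgebra.imK hsq
  simp only [re_mul, imI_mul, imJ_mul, imK_mul, re_zero, imI_zero, imJ_zero, imK_zero, q4_re, q4_imI, q4_imJ, q4_imK] at e0 e1 e2 e3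
  obtain ⟨ha', hb', hc', hd'⟩ := hR
  simp only [q4_re, q4_imI, q4_imJ, q4_imK] at ha' hb' hc' hd'
  have ha : a = 0 := by
    by_contra h
    have hb : b = 0 := by
      have : a * (2 * b) = 0 := by linear_combination e1
      rcases mul_eq_zero.1 this with h' | h'
      · exact absurd h' h
      · exact (mul_eq_zero.1 h').resolve_left h2
    have hc : c = 0 := by
      have : a * (2 * c) = 0 := by linear_combination e2
      rcases mul_eq_zero.1 this with h' | h'
      · exact absurd h' h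
      · exact (mul_eq_zero.1 h').resolve_left h2
    have hd : d = 0 := by
      have : a * (2 * d) = 0 := by linear_combination e3
      rcases mul_eq_zero.1 this with h' | h'
      · exact absurd h' h
      · exact (mul_eq_zero.1 h').resolve_left h2
    subst hb hc hd
    apply h
    have : a * a = 0 := by linear_combination e0
    simpa using this
  subst ha
  have hns : normSq (un γ 1 α β) = 1 := un_ns hw
  have hG := (Fr.of F _ hns hx).R0 hwR
  rw [cF_apply] at hG
  have hfix : star (un γ 1 α β) * q4 0 1 α β * un γ 1 α β = q4 0 1 α β := by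
    ext <;> simp [un]
    · ring
    · linear_combination (γ ^ 2) * hw
    · linear_combination (γ ^ 2 * α) * hw
    · linear_combination (γ ^ 2 * β) * hw
  rw [hfix, hw'] at hG
  obtain ⟨_, g1, g2, g3⟩ := hG
  have k1 : (un γ 1 α β * q4 0 b c d * star (un γ 1 α β)).imI =
      b + 2 * γ * (α * d - β * c) + 2 * γ ^ 2 * (b + α * c + β * d) := by
    simp [un]
    linear_combination (-γ ^ 2 * b) * hw
  have k2 : (un γ 1 α β * q4 0 b c d * star (un γ 1 α β)).imJ =
      c + 2 * γ * (β * b - d) + 2 * γ ^ 2 * (b + α * c + β * d) * α := by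
    simp [un]
    linear_combination (-γ ^ 2 * c) * hw
  have k3 : (un γ 1 α β * q4 0 b c d * star (un γ 1 α β)).imK =
      d + 2 * γ * (c - α * b) + 2 * γ ^ 2 * (b + α * c + β * d) * β := by
    simp [un]
    linear_combination (-γ ^ 2 * d) * hw
  rw [k1] at g1
  rw [k2] at g2
  rw [k3] at g3
  -- elimination of `γ²`
  have m2 : γ * (2 * ((β * b - d) - α * (α * d - β * c))) ∈ PF (K := K) p := by
    have h := sub_mem (sub_mem g2 (mul_mem hα g1)) (sub_mem hc' (mul_mem hα hb'))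
    have e : c + 2 * γ * (β * b - d) + 2 * γ ^ 2 * (b + α * c + β * d) * α -
      α * (b + 2 * γ * (α * d - β * c) + 2 * γ ^ 2 * (b + α * c + β * d)) - (c - α * b) =
      γ * (2 * ((β * b - d) - α * (α * d - β * c))) := by ring
    rwa [e] at h
  have m3 : γ * (2 * ((c - α * b) - β * (α * d - β * c))) ∈ PF (K := K) p := by
    have h := sub_mem (sub_mem g3 (mul_mem hβ g1)) (sub_mem hd' (mul_mem hβ hb'))
    have e : d + 2 * γ * (c - α * b) + 2 * γ ^ 2 * (b + α * c + β * d) * β -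
      β * (b + 2 * γ * (α * d - β * c) + 2 * γ ^ 2 * (b + α * c + β * d)) - (d - β * b) =
      γ * (2 * ((c - α * b) - β * (α * d - β * c))) := by ring
    rwa [e] at h
  have n2 := (mul_eq_zero.1 (eq_zero_of_mul hγ (mul_mem h2P (sub_mem (sub_mem (mul_mem hβ hb') hd')
    (mul_mem hα (sub_mem (mul_mem hα hd') (mul_mem hβ hc'))))) m2)).resolve_left h2
  have n3 := (mul_eq_zero.1 (eq_zero_of_mul hγ (mul_mem h2P (sub_mem (sub_mem hc' (mul_mem hα hb'))
    (mul_mem hβ (sub_mem (mul_mem hα hd') (mul_mem hβ hc'))))) m3)).resolve_left h2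
  have hD : b + α * c + β * d = 0 := by
    linear_combination b * hw - β * n2 + α * n3
  have g1' : γ * (2 * (α * d - β * c)) ∈ PF (K := K) p := by
    have h := sub_mem g1 hb'
    have e : b + 2 * γ * (α * d - β * c) + 2 * γ ^ 2 * (b + α * c + β * d) - b = γ * (2 * (α * d - β * c)) := by
      rw [hD]
      ring
    rwa [e] at h
  have n1 := (mul_eq_zero.1 (eq_zero_of_mul hγ (mul_mem h2P (sub_mem (mul_mem hα hd') (mul_mem hβ hc'))) g1')).resolve_left h2
  refine ⟨b, ?_⟩
  rw [hw']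
  ext
  · rfl
  · rfl
  · change c = b * α
    linear_combination n3 + β * n1
  · change d = b * β
    linear_combination -n2 - α * n1


/-- the scalars -/
theorem coe_of_comm (h2 : (2 : K) ≠ 0) {z : ℍ[K]} (hi : z * qI = qI * z) (hj : z * qJ = qJ * z) :
    z = ((z.re : K) : ℍ[K]) := by
  have a2 := congrArg QuaternionAlgebra.imJ hi
  have a3 := congrArg QuaternionAlgebra.imK hi
  have b3 := congrArg QuaternionAlgebra.imK hj
  simp only [imJ_mul, imK_mul, qI, qJ, q4_re, q4_imI, q4_imJ, q4_imK] at a2 a3 b3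
  have k1 : z.imK = 0 := by
    have : 2 * z.imK = 0 := by linear_combination a2
    exact (mul_eq_zero.1 this).resolve_left h2
  have k2 : z.imJ = 0 := by
    have : 2 * z.imJ = 0 := by linear_combination -a3
    exact (mul_eq_zero.1 this).resolve_left h2
  have k3 : z.imI = 0 := by
    have : 2 * z.imI = 0 := by linear_combination b3
    exact (mul_eq_zero.1 this).resolve_left h2
  ext
  · rfl
  · exact k3
  · exact k2
  · exact k1

theorem delta (h2 : (2 : K) ≠ 0) {F : ℍ[K] →+* ℍ[K]} {c c' : K} {m n : ℤ}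
    (hw : (1 : K) ^ 2 + (m : K) ^ 2 + (n : K) ^ 2 = 0) (hI : F qI = qI) (hJ : F qJ = qJ) (hK : F qK = qK)
    (hc : F (c : ℍ[K]) = (c' : ℍ[K])) (hx : FrC F (un c 1 (m : K) (n : K))) : c - c' ∈ PF (K := K) p := by
  have hmP : (m : K) ∈ PF (K := K) p := intCast_mem _ m
  have hnP : (n : K) ∈ PF (K := K) p := intCast_mem _ n
  have h4P : (4 : K) ∈ PF (K := K) p := by
    have := intCast_mem (PF (K := K) p) 4
    exact_mod_cast this
  have h4 : (4 : K) ≠ 0 := by
    have : (4 : K) = 2 * 2 := by norm_num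
    rw [this]
    exact mul_ne_zero h2 h2
  have e : ∀ t : K, (un t 1 (m : K) (n : K) : ℍ[K]) = 1 + (t : ℍ[K]) * (qI + (m : ℍ[K]) * qJ + (n : ℍ[K]) * qK) := by
    intro t
    ext <;> simp [un, qI, qJ, qK]
  have es : star (un c 1 (m : K) (n : K)) = 1 - (c : ℍ[K]) * (qI + (m : ℍ[K]) * qJ + (n : ℍ[K]) * qK) := by
    ext <;> simp [un, qI, qJ, qK]
  have es' : star (un c' 1 (m : K) (n : K)) = 1 - (c' : ℍ[K]) * (qI + (m : ℍ[K]) * qJ + (n : ℍ[K]) * qK) := by
    ext <;> simp [un, qI, qJ, qK]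
  have f1 : F (un c 1 (m : K) (n : K)) = un c' 1 (m : K) (n : K) := by
    rw [e, e]
    simp only [map_add, map_mul, map_one, map_intCast, hI, hJ, hK, hc]
  have f2 : F (star (un c 1 (m : K) (n : K))) = star (un c' 1 (m : K) (n : K)) := by
    rw [es, es']
    simp only [map_sub, map_add, map_mul, map_one, map_intCast, hI, hJ, hK, hc]
  have hu : (q4 0 1 (-(m : K)) (-(n : K)) : ℍ[K]) = qI - (m : ℍ[K]) * qJ - (n : ℍ[K]) * qK := by
    ext <;> simp [qI, qJ, qK]
  have f3 : F (q4 0 1 (-(m : K)) (-(n : K))) = q4 0 1 (-(m : K)) (-(n : K)) := by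
    rw [hu]
    simp only [map_sub, map_mul, map_intCast, hI, hJ, hK]
  have huR : R0 p (q4 0 1 (-(m : K)) (-(n : K)) : ℍ[K]) := ⟨zero_mem _, one_mem _, neg_mem hmP, neg_mem hnP⟩
  have hG := (Fr.of F _ (un_ns hw) hx).R0 huR
  rw [cF_apply, map_mul, map_mul, f1, f2, f3] at hG
  clear f1 f2 f3 hu es es' e hx
  generalize (m : K) = α at *
  generalize (n : K) = β at *
  have hy : un c 1 α β * star (un c' 1 α β) = un (c - c') 1 α β := by
    ext <;> simp [un]
    · linear_combination (c * c') * hw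
    · ring
    · ring
    · ring
  have hy' : un c' 1 α β * star (un c 1 α β) = star (un (c - c') 1 α β) := by
    ext <;> simp [un]
    · linear_combination (c * c') * hw
    · ring
    · ring
    · ring
  have hy2 : un c 1 α β * (star (un c' 1 α β) * q4 0 1 (-α) (-β) * un c' 1 α β) * star (un c 1 α β) =
      un (c - c') 1 α β * q4 0 1 (-α) (-β) * star (un (c - c') 1 α β) := by
    rw [← hy', ← hy]
    simp only [mul_assoc]
  rw [hy2] at hG
  obtain ⟨_, g1, g2, g3⟩ := hG
  have k1 : (un (c - c') 1 α β * q4 0 1 (-α) (-β) * star (un (c - c') 1 α β)).imI =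
      1 + 4 * (c - c') ^ 2 := by
    simp [un]
    linear_combination (-3 * (c - c') ^ 2) * hw
  have k2 : (un (c - c') 1 α β * q4 0 1 (-α) (-β) * star (un (c - c') 1 α β)).imJ =
      -α + 4 * (c - c') * β + 4 * (c - c') ^ 2 * α := by
    simp [un]
    linear_combination (-(c - c') ^ 2 * α) * hw
  have k3 : (un (c - c') 1 α β * q4 0 1 (-α) (-β) * star (un (c - c') 1 α β)).imK =
      -β - 4 * (c - c') * α + 4 * (c - c') ^ 2 * β := by
    simp [un]
    linear_combination (-(c - c') ^ 2 * β) * hw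
  rw [k1] at g1
  rw [k2] at g2
  rw [k3] at g3
  have hd2 := sub_mem g1 (one_mem _)
  have m2 : 4 * (c - c') * β ∈ PF (K := K) p := by
    have h := add_mem (sub_mem g2 (mul_mem hd2 hmP)) hmP
    have e : -α + 4 * (c - c') * β + 4 * (c - c') ^ 2 * α - (1 + 4 * (c - c') ^ 2 - 1) * α + α =
      4 * (c - c') * β := by ring
    rwa [e] at h
  have m3 : 4 * (c - c') * α ∈ PF (K := K) p := by
    have h := sub_mem (sub_mem (mul_mem hd2 hnP) hnP) g3
    have e : (1 + 4 * (c - c') ^ 2 - 1) * β - β - (-β - 4 * (c - c') * α + 4 * (c - c') ^ 2 * β) =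
      4 * (c - c') * α := by ring
    rwa [e] at h
  have h := neg_mem (add_mem (mul_mem m3 hmP) (mul_mem m2 hnP))
  have e : -(4 * (c - c') * α * α + 4 * (c - c') * β * β) = 4 * (c - c') := by
    linear_combination (-4 * (c - c')) * hw
  rw [e] at h
  have h5 := mul_mem (inv_mem h4P) h
  rwa [inv_mul_cancel_left₀ h4] at h5


/-- **non-prime fields** -/
theorem rigid_big (h2 : (2 : K) ≠ 0) {γ : K} (hγ : γ ∉ PF (K := K) p) (hgen : ∀ a : K, a ≠ 0 → ∃ n : ℕ, a = γ ^ n) :
    ∃ x : Fin 4 → ℍ[K], (∀ m, normSq (x m) = 1) ∧ ∀ F : ℍ[K] →+* ℍ[K], Fr F → (∀ m, FrC F (x m)) → ∀ z, F z = z := by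
  obtain ⟨m, n, hmn⟩ := exists_sq p K
  have hmP : (m : K) ∈ PF (K := K) p := intCast_mem _ m
  have hnP : (n : K) ∈ PF (K := K) p := intCast_mem _ n
  have hw : (1 : K) ^ 2 + (m : K) ^ 2 + (n : K) ^ 2 = 0 := by linear_combination hmn
  have hw1 : (1 : K) ^ 2 + (-(m : K)) ^ 2 + (-(n : K)) ^ 2 = 0 := by linear_combination hmn
  have hw2 : (1 : K) ^ 2 + (n : K) ^ 2 + (-(m : K)) ^ 2 = 0 := by linear_combination hmn
  refine ⟨![un γ 1 (m : K) (n : K), un γ 1 (-(m : K)) (-(n : K)), un γ 1 (n : K) (-(m : K)), un (γ ^ 2) 1 (m : K) (n : K)],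
    ?_, ?_⟩
  · intro i
    fin_cases i
    · exact un_ns hw
    · exact un_ns hw1
    · exact un_ns hw2
    · exact un_ns hw
  intro F hF hx
  have hx0 : FrC F (un γ 1 (m : K) (n : K)) := hx 0
  have hx1 : FrC F (un γ 1 (-(m : K)) (-(n : K))) := hx 1
  have hx2 : FrC F (un γ 1 (n : K) (-(m : K))) := hx 2
  have hx3 : FrC F (un (γ ^ 2) 1 (m : K) (n : K)) := hx 3
  obtain ⟨b, hb⟩ := eps h2 hF hγ hmP hnP hw hx0
  obtain ⟨b1, hb1⟩ := eps h2 hF hγ (neg_mem hmP) (neg_mem hnP) hw1 hx1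
  obtain ⟨b2, hb2⟩ := eps h2 hF hγ hnP (neg_mem hmP) hw2 hx2
  have h4 : (4 : K) ≠ 0 := by
    have : (4 : K) = 2 * 2 := by norm_num
    rw [this]
    exact mul_ne_zero h2 h2
  obtain ⟨t4, ht4⟩ : ∃ t : ℤ, (t : K) = -4 := ⟨-4, by norm_num⟩
  obtain ⟨t2, ht2⟩ : ∃ t : ℤ, (t : K) = -2 := ⟨-2, by norm_num⟩
  obtain ⟨r2, hr2⟩ : ∃ t : ℤ, (t : K) = 2 := ⟨2, by norm_num⟩
  -- the scalar products
  have s1 : b * b1 = 1 := by
    have e : (q4 0 1 (m : K) (n : K) * q4 0 1 (-(m : K)) (-(n : K)) + q4 0 1 (-(m : K)) (-(n : K)) * q4 0 1 (m : K) (n : K)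
        : ℍ[K]) = (t4 : ℍ[K]) := by
      ext <;> simp [ht4] <;> ring_nf
      linear_combination 2 * hw
    have h := congrArg F e
    rw [map_add, map_mul, map_mul, hb, hb1, map_intCast] at h
    have h' := congrArg QuaternionAlgebra.re h
    simp [ht4] at h'
    have : 4 * (b * b1) = 4 * 1 := by linear_combination -h' + 2 * b * b1 * hw
    exact mul_left_cancel₀ h4 this
  have s2 : b * b2 = 1 := by
    have e : (q4 0 1 (m : K) (n : K) * q4 0 1 (n : K) (-(m : K)) + q4 0 1 (n : K) (-(m : K)) * q4 0 1 (m : K) (n : K)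
        : ℍ[K]) = (t2 : ℍ[K]) := by
      ext <;> simp [ht2] <;> ring_nf
    have h := congrArg F e
    rw [map_add, map_mul, map_mul, hb, hb2, map_intCast] at h
    have h' := congrArg QuaternionAlgebra.re h
    simp [ht2] at h'
    have : 2 * (b * b2) = 2 * 1 := by linear_combination -h'
    exact mul_left_cancel₀ h2 this
  have s3 : b1 * b2 = 1 := by
    have e : (q4 0 1 (-(m : K)) (-(n : K)) * q4 0 1 (n : K) (-(m : K)) + q4 0 1 (n : K) (-(m : K)) *
        q4 0 1 (-(m : K)) (-(n : K)) : ℍ[K]) = (t2 : ℍ[K]) := by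
      ext <;> simp [ht2] <;> ring_nf
    have h := congrArg F e
    rw [map_add, map_mul, map_mul, hb1, hb2, map_intCast] at h
    have h' := congrArg QuaternionAlgebra.re h
    simp [ht2] at h'
    have : 2 * (b1 * b2) = 2 * 1 := by linear_combination -h'
    exact mul_left_cancel₀ h2 this
  have hb0 : b ≠ 0 := by
    rintro rfl
    rw [zero_mul] at s1
    exact zero_ne_one s1
  have e12 : b1 = b2 := mul_left_cancel₀ hb0 (s1.trans s2.symm)
  have e01 : b = b1 := by
    have : b2 * b = b2 * b1 := by rw [mul_comm, s2, mul_comm, s3]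
    refine mul_left_cancel₀ ?_ this
    rintro rfl
    rw [mul_zero] at s2
    exact zero_ne_one s2
  subst e12
  subst e01
  -- the images of `i, j, k`
  have h2q : (r2 : ℍ[K]) * qI = q4 0 1 (m : K) (n : K) + q4 0 1 (-(m : K)) (-(n : K)) := by
    ext <;> simp [qI, hr2] <;> norm_num
  have hI : F qI = q4 0 b 0 0 := by
    have h := congrArg F h2q
    rw [map_mul, map_add, map_intCast, hb, hb1] at h
    ext
    · have := congrArg QuaternionAlgebra.re h
      simp [hr2] at this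
      rcases this with h' | h'
      · exact absurd h' h2
      · exact h'
    · have := congrArg QuaternionAlgebra.imI h
      simp [hr2] at this
      have h3 : 2 * (F qI).imI = 2 * b := by linear_combination this
      exact mul_left_cancel₀ h2 h3
    · have := congrArg QuaternionAlgebra.imJ h
      simp [hr2] at this
      rcases this with h' | h'
      · exact absurd h' h2
      · exact h'
    · have := congrArg QuaternionAlgebra.imK h
      simp [hr2] at this
      rcases this with h' | h'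
      · exact absurd h' h2
      · exact h'
  have hJ : F qJ = q4 0 0 b 0 := by
    have e : (qJ : ℍ[K]) = -((m : ℍ[K]) * (q4 0 1 (m : K) (n : K) - qI) + (n : ℍ[K]) * (q4 0 1 (n : K) (-(m : K)) - qI)) := by
      ext <;> simp [qI, qJ]
      · linear_combination hmn
      · ring
    have h := congrArg F e
    rw [map_neg, map_add, map_mul, map_mul, map_intCast, map_intCast, map_sub, map_sub, hb, hb2, hI] at h
    rw [h]
    ext <;> simp
    · linear_combination (-b) * hmn
    · ring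
  have hK : F qK = q4 0 0 0 b := by
    have e : (qK : ℍ[K]) = -((n : ℍ[K]) * (q4 0 1 (m : K) (n : K) - qI) - (m : ℍ[K]) * (q4 0 1 (n : K) (-(m : K)) - qI)) := by
      ext <;> simp [qI, qK]
      · ring
      · linear_combination hmn
    have h := congrArg F e
    rw [map_neg, map_sub, map_mul, map_mul, map_intCast, map_intCast, map_sub, map_sub, hb, hb2, hI] at h
    rw [h]
    ext <;> simp
    · ring
    · linear_combination (-b) * hmn
  have hb1' : b = 1 := by
    have e : (qI : ℍ[K]) * qJ = qK := by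
      ext <;> simp [qI, qJ, qK]
    have h := congrArg F e
    rw [map_mul, hI, hJ, hK] at h
    have h' := congrArg QuaternionAlgebra.imK h
    simp at h'
    exact mul_left_cancel₀ hb0 (h'.trans (mul_one b).symm)
  subst hb1'
  have hI' : F qI = qI := hI
  have hJ' : F qJ = qJ := hJ
  have hK' : F qK = qK := hK
  -- the scalars
  have hsc : ∀ c : K, F (c : ℍ[K]) = (((F (c : ℍ[K])).re : K) : ℍ[K]) := by
    intro c
    apply coe_of_comm h2
    · have h := congrArg F (coe_commutes c (qI : ℍ[K]))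
      rwa [map_mul, map_mul, hI'] at h
    · have h := congrArg F (coe_commutes c (qJ : ℍ[K]))
      rwa [map_mul, map_mul, hJ'] at h
  obtain ⟨γ', hγ'⟩ : ∃ γ' : K, F (γ : ℍ[K]) = (γ' : ℍ[K]) := ⟨_, hsc γ⟩
  have d1 := delta h2 hw hI' hJ' hK' hγ' hx0
  have d2 := delta (c' := γ' ^ 2) h2 hw hI' hJ' hK' (by rw [coe_pow, map_pow, hγ', coe_pow]) hx3
  have hγγ : γ' = γ := by
    by_contra hne
    apply hγ
    have hd : γ - γ' ≠ 0 := fun h => hne (sub_eq_zero.1 h).symm
    have h2P : (2 : K) ∈ PF (K := K) p := by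
      have := intCast_mem (PF (K := K) p) 2
      exact_mod_cast this
    have h := mul_mem (inv_mem h2P) (add_mem (mul_mem (inv_mem d1) d2) d1)
    have e : (2 : K)⁻¹ * ((γ - γ')⁻¹ * (γ ^ 2 - γ' ^ 2) + (γ - γ')) = γ := by
      field_simp
      ring
    rwa [e] at h
  rw [hγγ] at hγ'
  have hall : ∀ c : K, F (c : ℍ[K]) = (c : ℍ[K]) := by
    intro c
    rcases eq_or_ne c 0 with rfl | hc
    · rw [coe_zero, map_zero]
    · obtain ⟨n, rfl⟩ := hgen c hc
      rw [coe_pow, map_pow, hγ']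
  intro z
  have hz : z = (z.re : ℍ[K]) + (z.imI : ℍ[K]) * qI + (z.imJ : ℍ[K]) * qJ + (z.imK : ℍ[K]) * qK := by
    ext <;> simp [qI, qJ, qK]
  rw [hz]
  simp only [map_add, map_mul, hall, hI', hJ', hK']

end Big

end Cfsg.Agent.H173.FC
end

-- part: H173/FC/Row
section
/-!
# S5764, L-C6, n = 2 (helper173): five conjugates, from the quaternion coordinates
-/

set_option autoImplicit false

namespace Cfsg.Agent.H173.FC

open Quaternion Cfsg.Agent.H198.FC

universe u v

variable {K : Type u} [Field K] {V : Type v} [AddCommGroup V] [Module K V]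

/-- `S` permutes the three pairs `±i, ±j, ±k` -/
structure Ctx (e : ℍ[K] ≃ₐ[K] R K V) (S : Subgroup (Equiv.Perm (R K V))) : Prop where
  rp : S ≤ RP K V
  q : ∀ f ∈ S, ∀ v : ℍ[K], (v = qI ∨ v = qJ ∨ v = qK) → IsQ (e.symm (f (e v)))

theorem rp_one {f : Equiv.Perm (R K V)} (hf : f ∈ RP K V) : f 1 = 1 := by
  obtain ⟨y, hy⟩ := f.surjective 1
  have h := hf.2 y 1
  rw [mul_one, hy, one_mul] at h
  exact h.symm

theorem rp_zero {f : Equiv.Perm (R K V)} (hf : f ∈ RP K V) : f 0 = 0 := by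
  have h := hf.1 0 0
  rw [add_zero] at h
  exact left_eq_add.1 h

/-- the ring endomorphism of the quaternions -/
noncomputable def hmq (e : ℍ[K] ≃ₐ[K] R K V) (f : Equiv.Perm (R K V)) (hf : f ∈ RP K V) : ℍ[K] →+* ℍ[K] where
  toFun z := e.symm (f (e z))
  map_one' := by rw [map_one, rp_one hf, map_one]
  map_mul' a b := by rw [map_mul, hf.2, map_mul]
  map_zero' := by rw [map_zero, rp_zero hf, map_zero]
  map_add' a b := by rw [map_add, hf.1, map_add]

theorem hmq_apply (e : ℍ[K] ≃ₐ[K] R K V) (f : Equiv.Perm (R K V)) (hf : f ∈ RP K V) (z : ℍ[K]) :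
    hmq e f hf z = e.symm (f (e z)) := rfl

theorem e_hmq (e : ℍ[K] ≃ₐ[K] R K V) (f : Equiv.Perm (R K V)) (hf : f ∈ RP K V) (z : ℍ[K]) :
    e (hmq e f hf z) = f (e z) := by
  rw [hmq_apply, AlgEquiv.apply_symm_apply]

/-- unit of norm 1 -/
noncomputable def nu (e : ℍ[K] ≃ₐ[K] R K V) (x : ℍ[K]) (h : normSq x = 1) : (R K V)ˣ :=
  ⟨e x, e (star x), by rw [← map_mul, mul_star_one h, map_one], by rw [← map_mul, star_mul_one h, map_one]⟩

theorem nu_val (e : ℍ[K] ≃ₐ[K] R K V) (x : ℍ[K]) (h : normSq x = 1) : ((nu e x h : (R K V)ˣ) : R K V) = e x := rfl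

theorem nu_inv (e : ℍ[K] ≃ₐ[K] R K V) (x : ℍ[K]) (h : normSq x = 1) :
    (((nu e x h)⁻¹ : (R K V)ˣ) : R K V) = e (star x) := rfl

theorem cj_nu (e : ℍ[K] ≃ₐ[K] R K V) (x : ℍ[K]) (h : normSq x = 1) (z : ℍ[K]) :
    cj K V (nu e x h) (e z) = e (x * z * star x) := by
  rw [cj_apply, nu_val, nu_inv, map_mul, map_mul]

theorem cj_nu_inv (e : ℍ[K] ≃ₐ[K] R K V) (x : ℍ[K]) (h : normSq x = 1) (z : ℍ[K]) :
    (cj K V (nu e x h))⁻¹ (e z) = e (star x * z * x) := by
  rw [Equiv.Perm.inv_eq_iff_eq, cj_nu]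
  congr 1
  have h1 := mul_star_one h
  calc z = 1 * z * 1 := by rw [one_mul, mul_one]
    _ = x * (star x * z * x) * star x := by rw [← h1]; simp only [mul_assoc]

theorem Ctx.fr {e : ℍ[K] ≃ₐ[K] R K V} {S : Subgroup (Equiv.Perm (R K V))} (C : Ctx e S) {f : Equiv.Perm (R K V)}
    (hf : f ∈ S) : Fr (hmq e f (C.rp hf)) :=
  ⟨C.q f hf _ (Or.inl rfl), C.q f hf _ (Or.inr (Or.inl rfl)), C.q f hf _ (Or.inr (Or.inr rfl))⟩

theorem Ctx.frC {e : ℍ[K] ≃ₐ[K] R K V} {S : Subgroup (Equiv.Perm (R K V))} (C : Ctx e S) {f : Equiv.Perm (R K V)}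
    (hf : f ∈ S) {x : ℍ[K]} (h : normSq x = 1) (hx : cj K V (nu e x h) * f * (cj K V (nu e x h))⁻¹ ∈ S) :
    FrC (hmq e f (C.rp hf)) x := by
  intro v hv
  have h1 := C.q _ hx v hv
  rw [Equiv.Perm.mul_apply, Equiv.Perm.mul_apply, cj_nu_inv, ← e_hmq e f (C.rp hf), cj_nu,
    AlgEquiv.symm_apply_apply] at h1
  exact h1

/-! ### the determinant -/

theorem det_eq [Module.Finite K V] (hV : Module.finrank K V = 2) (e : ℍ[K] ≃ₐ[K] R K V) (z : ℍ[K]) :
    LinearMap.det (e z) = normSq z := by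
  let b : Module.Basis (Fin 2) K V := Module.finBasisOfFinrankEq K V hV
  obtain ⟨M, hM⟩ : ∃ M, M = LinearMap.toMatrix b b (e z) := ⟨_, rfl⟩
  obtain ⟨N, hN⟩ : ∃ N, N = LinearMap.toMatrix b b (e (star z)) := ⟨_, rfl⟩
  have h1 : M * N = (normSq z) • (1 : Matrix (Fin 2) (Fin 2) K) := by
    rw [hM, hN, ← LinearMap.toMatrix_mul, ← map_mul, self_mul_star]
    have : e ((normSq z : K) : ℍ[K]) = (normSq z) • (1 : R K V) := by
      rw [← Algebra.algebraMap_eq_smul_one, ← e.commutes]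
      rfl
    rw [this, map_smul, LinearMap.toMatrix_one]
  have h2 : M + N = (2 * z.re) • (1 : Matrix (Fin 2) (Fin 2) K) := by
    rw [hM, hN, ← map_add, ← map_add, self_add_star']
    have : e ((2 * z.re : K) : ℍ[K]) = (2 * z.re) • (1 : R K V) := by
      rw [← Algebra.algebraMap_eq_smul_one, ← e.commutes]
      rfl
    rw [this, map_smul, LinearMap.toMatrix_one]
  have hdet : LinearMap.det (e z) = M.det := by
    rw [hM, LinearMap.det_toMatrix]
  rw [hdet]
  have hN' : N = (2 * z.re) • (1 : Matrix (Fin 2) (Fin 2) K) - M := by rw [← h2]; abel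
  rw [hN'] at h1
  have c00 := congrFun (congrFun h1 0) 0
  have c01 := congrFun (congrFun h1 0) 1
  have c10 := congrFun (congrFun h1 1) 0
  have c11 := congrFun (congrFun h1 1) 1
  simp [Matrix.mul_apply, Fin.sum_univ_two, Matrix.one_apply] at c00 c01 c10 c11
  rw [Matrix.det_fin_two]
  by_cases ht : M 0 0 + M 1 1 = 2 * z.re
  · linear_combination c00 + M 0 0 * ht
  · have k01 : M 0 1 = 0 := by
      have : (M 0 0 + M 1 1 - 2 * z.re) * M 0 1 = 0 := by linear_combination -c01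
      exact (mul_eq_zero.1 this).resolve_left (sub_ne_zero.2 ht)
    have k10 : M 1 0 = 0 := by
      have : (M 0 0 + M 1 1 - 2 * z.re) * M 1 0 = 0 := by linear_combination -c10
      exact (mul_eq_zero.1 this).resolve_left (sub_ne_zero.2 ht)
    have kd : M 0 0 = M 1 1 := by
      have : (M 0 0 + M 1 1 - 2 * z.re) * (M 0 0 - M 1 1) = 0 := by
        rw [k01, k10] at c00 c11
        linear_combination -c00 + c11
      exact sub_eq_zero.1 ((mul_eq_zero.1 this).resolve_left (sub_ne_zero.2 ht))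
    have hMs : M = (M 0 0) • (1 : Matrix (Fin 2) (Fin 2) K) := by
      ext i j
      fin_cases i <;> fin_cases j <;> simp [k01, k10, kd]
    have hez : e z = (M 0 0) • (1 : R K V) := by
      apply (LinearMap.toMatrix b b).injective
      rw [← hM, map_smul, LinearMap.toMatrix_one]
      exact hMs
    have hz : z = ((M 0 0 : K) : ℍ[K]) := by
      apply e.injective
      rw [hez, ← Algebra.algebraMap_eq_smul_one, ← e.commutes]
      rfl
    have h3 : normSq z = M 0 0 ^ 2 := by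
      conv_lhs => rw [hz]
      rw [ns_eq]
      simp
    rw [h3, k01, ← kd]
    ring


/-! ### non-prime fields -/

theorem five_big [Module.Finite K V] (hV : Module.finrank K V = 2) (p : ℕ) [Fact p.Prime] [CharP K p]
    {e : ℍ[K] ≃ₐ[K] R K V} {S : Subgroup (Equiv.Perm (R K V))} (C : Ctx e S)
    (h2 : (2 : K) ≠ 0) {γ : K} (hγ : γ ∉ PF (K := K) p) (hgen : ∀ a : K, a ≠ 0 → ∃ n : ℕ, a = γ ^ n) : Five S := by
  obtain ⟨x, hx, hr⟩ := rigid_big h2 hγ hgen
  refine ⟨fun m => nu e (x m) (hx m), fun m => ?_, fun f hf hc => ?_⟩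
  · rw [nu_val, det_eq hV, hx m]
  · have h := hr (hmq e f (C.rp hf)) (C.fr hf) fun m => C.frC hf (hx m) (hc m)
    apply Equiv.ext
    intro X
    obtain ⟨z, rfl⟩ := e.surjective X
    rw [← e_hmq e f (C.rp hf), h]
    rfl

/-! ### prime fields -/

section Prime

theorem IsQ.mul_eq {z : ℍ[K]} (h : IsQ z) : z.imJ * z.imK = 0 := by
  obtain ⟨h0, ⟨h1, h2, h3⟩ | ⟨h1, h2, h3⟩ | ⟨h1, h2, h3⟩⟩ := h
  · rw [h2, zero_mul]
  · rw [h3, mul_zero]
  · rw [h2, zero_mul]

/-- `x = (1 + 2i + 2j)/3` -/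
def xr (r : K) : ℍ[K] := q4 r (2 * r) (2 * r) 0

/-- `y = (1 + 2j + 2k)/3` -/
def yr (r : K) : ℍ[K] := q4 r 0 (2 * r) (2 * r)

theorem xr_ns {r : K} (hr : 3 * r = 1) : normSq (xr r) = 1 := by
  rw [ns_eq]
  simp only [xr, q4_re, q4_imI, q4_imJ, q4_imK]
  linear_combination (3 * r + 1) * hr

theorem yr_ns {r : K} (hr : 3 * r = 1) : normSq (yr r) = 1 := by
  rw [ns_eq]
  simp only [yr, q4_re, q4_imI, q4_imJ, q4_imK]
  linear_combination (3 * r + 1) * hr

theorem qI_ns : normSq (qI : ℍ[K]) = 1 := by rw [ns_eq]; simp [qI]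
theorem qK_ns : normSq (qK : ℍ[K]) = 1 := by rw [ns_eq]; simp [qK]

theorem ns_mul {x t : ℍ[K]} (hx : normSq x = 1) (ht : normSq t = 1) : normSq (x * t) = 1 := by
  rw [map_mul, hx, ht, mul_one]

/-- two conjugates -/
theorem Ctx.mt {e : ℍ[K] ≃ₐ[K] R K V} {S : Subgroup (Equiv.Perm (R K V))} (C : Ctx e S) {f : Equiv.Perm (R K V)}
    (hf : f ∈ S) {x t : ℍ[K]} (hx : normSq x = 1) (ht : normSq t = 1)
    (h1 : cj K V (nu e x hx) * f * (cj K V (nu e x hx))⁻¹ ∈ S)
    (h2 : cj K V (nu e (x * t) (ns_mul hx ht)) * f * (cj K V (nu e (x * t) (ns_mul hx ht)))⁻¹ ∈ S) :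
    IsQ (x * t * hmq e f (C.rp hf) (star t) * star x * qI * (x * hmq e f (C.rp hf) t * star t * star x)) := by
  have h3 := S.mul_mem h2 (S.inv_mem h1)
  have h4 := C.q _ h3 qI (Or.inl rfl)
  have e1 : (cj K V (nu e (x * t) (ns_mul hx ht)) * f * (cj K V (nu e (x * t) (ns_mul hx ht)))⁻¹ *
      (cj K V (nu e x hx) * f * (cj K V (nu e x hx))⁻¹)⁻¹) (e qI) =
      e (x * t * hmq e f (C.rp hf) (star t) * star x * qI * (x * hmq e f (C.rp hf) t * star t * star x)) := by
    rw [mul_inv_rev, mul_inv_rev, inv_inv]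
    simp only [Equiv.Perm.mul_apply]
    rw [cj_nu_inv]
    obtain ⟨w, hw⟩ : ∃ w, e w = f⁻¹ (e (star x * qI * x)) := ⟨e.symm _, AlgEquiv.apply_symm_apply _ _⟩
    have hw' : hmq e f (C.rp hf) w = star x * qI * x := by
      apply e.injective
      rw [e_hmq, hw]
      exact Equiv.apply_symm_apply f _
    rw [← hw, cj_nu, cj_nu_inv, ← e_hmq e f (C.rp hf), cj_nu]
    congr 1
    have e2 : star (x * t) * (x * w * star x) * (x * t) = star t * w * t := by
      rw [star_mul]
      calc star t * star x * (x * w * star x) * (x * t) = star t * (star x * x) * w * (star x * x) * t := by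
            simp only [mul_assoc]
        _ = _ := by rw [star_mul_one hx, mul_one, mul_one]
    rw [e2, map_mul, map_mul, hw', star_mul]
    simp only [mul_assoc]
  rw [e1, AlgEquiv.symm_apply_apply] at h4
  exact h4


theorem star_q (s a b : K) : -(q4 0 s a b : ℍ[K]) = star (q4 0 s a b) := by
  ext <;> simp

theorem sq_cases {a : K} (h : a ^ 2 = 1) : a = 1 ∨ a = -1 := by
  have h1 : (a - 1) * (a + 1) = 0 := by linear_combination h
  rcases mul_eq_zero.1 h1 with h2 | h2
  · exact Or.inl (sub_eq_zero.1 h2)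
  · exact Or.inr (eq_neg_of_add_eq_zero_left h2)

theorem five_prime [Module.Finite K V] (hV : Module.finrank K V = 2) (p : ℕ) [Fact p.Prime] [CharP K p]
    {e : ℍ[K] ≃ₐ[K] R K V} {S : Subgroup (Equiv.Perm (R K V))} (C : Ctx e S)
    (h2 : (2 : K) ≠ 0) (h3 : (3 : K) ≠ 0) (hP : ∀ a : K, a ∈ PF (K := K) p) : Five S := by
  obtain ⟨r, hr⟩ : ∃ r : K, 3 * r = 1 := ⟨3⁻¹, mul_inv_cancel₀ h3⟩
  have hr0 : r ≠ 0 := by
    rintro rfl
    rw [mul_zero] at hr
    exact zero_ne_one hr
  have h8 : (8 : K) ≠ 0 := by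
    have : (8 : K) = 2 ^ 3 := by norm_num
    rw [this]
    exact pow_ne_zero _ h2
  have h16 : (16 : K) ≠ 0 := by
    have : (16 : K) = 2 ^ 4 := by norm_num
    rw [this]
    exact pow_ne_zero _ h2
  have h64 : (64 : K) ≠ 0 := by
    have : (64 : K) = 2 ^ 6 := by norm_num
    rw [this]
    exact pow_ne_zero _ h2
  have hxn := xr_ns hr
  have hyn := yr_ns hr
  have hn : ∀ m : Fin 4, normSq ((![xr r, xr r * qK, yr r, yr r * qI] : Fin 4 → ℍ[K]) m) = 1 := by
    intro m
    fin_cases m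
    · exact hxn
    · exact ns_mul hxn qK_ns
    · exact hyn
    · exact ns_mul hyn qI_ns
  refine ⟨fun m => nu e _ (hn m), fun m => ?_, fun f hf hc => ?_⟩
  · rw [nu_val, det_eq hV, hn m]
  have c0 : cj K V (nu e (xr r) hxn) * f * (cj K V (nu e (xr r) hxn))⁻¹ ∈ S := hc 0
  have c1 : cj K V (nu e (xr r * qK) (ns_mul hxn qK_ns)) * f * (cj K V (nu e (xr r * qK) (ns_mul hxn qK_ns)))⁻¹ ∈ S := hc 1
  have c2 : cj K V (nu e (yr r) hyn) * f * (cj K V (nu e (yr r) hyn))⁻¹ ∈ S := hc 2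
  have c3 : cj K V (nu e (yr r * qI) (ns_mul hyn qI_ns)) * f * (cj K V (nu e (yr r * qI) (ns_mul hyn qI_ns)))⁻¹ ∈ S := hc 3
  have m1 := C.mt hf hxn qK_ns c0 c1
  have m2 := C.mt hf hyn qI_ns c2 c3
  have x0 := C.frC hf hxn c0 qI (Or.inl rfl)
  have y0 := C.frC hf hyn c2 qI (Or.inl rfl)
  have hfr := C.fr hf
  obtain ⟨F, hF⟩ : ∃ F, F = hmq e f (C.rp hf) := ⟨_, rfl⟩
  have heF : ∀ z, e (F z) = f (e z) := by rw [hF]; exact e_hmq e f (C.rp hf)
  rw [← hF] at m1 m2 x0 y0 hfr
  have starK : F (star qK) = -F qK := by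
    have : star (qK : ℍ[K]) = -qK := by ext <;> simp [qK]
    rw [this, map_neg]
  have starI : F (star qI) = -F qI := by
    have : star (qI : ℍ[K]) = -qI := by ext <;> simp [qI]
    rw [this, map_neg]
  rw [starK] at m1
  rw [starI] at m2
  -- the image of `k`
  have hK : ∃ s : K, s ^ 2 = 1 ∧ F qK = q4 0 0 0 s := by
    obtain ⟨g0, ⟨g1, g2, g3⟩ | ⟨g1, g2, g3⟩ | ⟨g1, g2, g3⟩⟩ := hfr.k
    · exfalso
      obtain ⟨s, hs⟩ : ∃ s, s = (F qK).imI := ⟨_, rfl⟩
      have e0 : F qK = q4 0 s 0 0 := by ext <;> simp [g0, g2, g3, hs]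
      rw [← hs] at g1
      rw [e0, star_q] at m1
      have h := m1.mul_eq
      have k1 : (xr r * qK * star (q4 0 s 0 0) * star (xr r) * qI * (xr r * q4 0 s 0 0 * star qK * star (xr r))).imJ =
          16 * r ^ 4 := by
        simp [xr, qI, qK]
        linear_combination (16 * r ^ 4) * g1
      have k2 : (xr r * qK * star (q4 0 s 0 0) * star (xr r) * qI * (xr r * q4 0 s 0 0 * star qK * star (xr r))).imK =
          64 * r ^ 4 := by
        simp [xr, qI, qK]
        linear_combination (64 * r ^ 4) * g1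
      rw [k1, k2] at h
      exact mul_ne_zero (mul_ne_zero h16 (pow_ne_zero 4 hr0)) (mul_ne_zero h64 (pow_ne_zero 4 hr0)) h
    · exfalso
      obtain ⟨s, hs⟩ : ∃ s, s = (F qK).imJ := ⟨_, rfl⟩
      have e0 : F qK = q4 0 0 s 0 := by ext <;> simp [g0, g1, g3, hs]
      rw [← hs] at g2
      rw [e0, star_q] at m1
      have h := m1.mul_eq
      have k1 : (xr r * qK * star (q4 0 0 s 0) * star (xr r) * qI * (xr r * q4 0 0 s 0 * star qK * star (xr r))).imJ =
          16 * r ^ 4 := by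
        simp [xr, qI, qK]
        linear_combination (16 * r ^ 4) * g2
      have k2 : (xr r * qK * star (q4 0 0 s 0) * star (xr r) * qI * (xr r * q4 0 0 s 0 * star qK * star (xr r))).imK =
          -8 * r ^ 4 := by
        simp [xr, qI, qK]
        linear_combination (-8 * r ^ 4) * g2
      rw [k1, k2] at h
      exact mul_ne_zero (mul_ne_zero h16 (pow_ne_zero 4 hr0)) (mul_ne_zero (neg_ne_zero.2 h8) (pow_ne_zero 4 hr0)) h
    · exact ⟨(F qK).imK, g3, by ext <;> simp [g0, g1, g2]⟩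
  -- the image of `i`
  have hI : ∃ s : K, s ^ 2 = 1 ∧ F qI = q4 0 s 0 0 := by
    obtain ⟨g0, ⟨g1, g2, g3⟩ | ⟨g1, g2, g3⟩ | ⟨g1, g2, g3⟩⟩ := hfr.i
    · exact ⟨(F qI).imI, g1, by ext <;> simp [g0, g2, g3]⟩
    · exfalso
      obtain ⟨s, hs⟩ : ∃ s, s = (F qI).imJ := ⟨_, rfl⟩
      have e0 : F qI = q4 0 0 s 0 := by ext <;> simp [g0, g1, g3, hs]
      rw [← hs] at g2
      rw [e0, star_q] at m2
      have h := m2.mul_eq
      have k1 : (yr r * qI * star (q4 0 0 s 0) * star (yr r) * qI * (yr r * q4 0 0 s 0 * star qI * star (yr r))).imJ =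
          64 * r ^ 4 := by
        simp [yr, qI]
        linear_combination (64 * r ^ 4) * g2
      have k2 : (yr r * qI * star (q4 0 0 s 0) * star (yr r) * qI * (yr r * q4 0 0 s 0 * star qI * star (yr r))).imK =
          8 * r ^ 4 := by
        simp [yr, qI]
        linear_combination (8 * r ^ 4) * g2
      rw [k1, k2] at h
      exact mul_ne_zero (mul_ne_zero h64 (pow_ne_zero 4 hr0)) (mul_ne_zero h8 (pow_ne_zero 4 hr0)) h
    · exfalso
      obtain ⟨s, hs⟩ : ∃ s, s = (F qI).imK := ⟨_, rfl⟩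
      have e0 : F qI = q4 0 0 0 s := by ext <;> simp [g0, g1, g2, hs]
      rw [← hs] at g3
      rw [e0, star_q] at m2
      have h := m2.mul_eq
      have k1 : (yr r * qI * star (q4 0 0 0 s) * star (yr r) * qI * (yr r * q4 0 0 0 s * star qI * star (yr r))).imJ =
          -8 * r ^ 4 := by
        simp [yr, qI]
        linear_combination (-8 * r ^ 4) * g3
      have k2 : (yr r * qI * star (q4 0 0 0 s) * star (yr r) * qI * (yr r * q4 0 0 0 s * star qI * star (yr r))).imK =
          -64 * r ^ 4 := by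
        simp [yr, qI]
        linear_combination (-64 * r ^ 4) * g3
      rw [k1, k2] at h
      exact mul_ne_zero (mul_ne_zero (neg_ne_zero.2 h8) (pow_ne_zero 4 hr0))
        (mul_ne_zero (neg_ne_zero.2 h64) (pow_ne_zero 4 hr0)) h
  obtain ⟨s, hs, hFK⟩ := hK
  obtain ⟨t, ht, hFI⟩ := hI
  have hFJ : F qJ = q4 0 0 (s * t) 0 := by
    have e0 : (qJ : ℍ[K]) = qK * qI := by ext <;> simp [qI, qJ, qK]
    rw [e0, map_mul, hFK, hFI]
    ext <;> simp
  have hFz : ∀ z : ℍ[K], F z = q4 z.re (t * z.imI) (s * t * z.imJ) (s * z.imK) := by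
    intro z
    obtain ⟨a, b, c, d, hz⟩ := exists_int (p := p) (z := z) ⟨hP _, hP _, hP _, hP _⟩
    have e0 : F z = (a : ℍ[K]) + (b : ℍ[K]) * q4 0 t 0 0 + (c : ℍ[K]) * q4 0 0 (s * t) 0 + (d : ℍ[K]) * q4 0 0 0 s := by
      rw [hz]
      simp only [map_add, map_mul, map_intCast, hFI, hFJ, hFK]
    rw [e0, hz]
    ext <;> simp [qI, qJ, qK] <;> ring
  rw [hFz] at x0 y0
  have hx0 := x0.mul_eq
  have hy0 := y0.mul_eq
  have kx1 : (xr r * q4 (star (xr r) * qI * xr r).re (t * (star (xr r) * qI * xr r).imI)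
      (s * t * (star (xr r) * qI * xr r).imJ) (s * (star (xr r) * qI * xr r).imK) * star (xr r)).imJ =
      (8 * t + 8 * s * t - 16 * s) * r ^ 4 := by
    simp [xr, qI]
    ring
  have kx2 : (xr r * q4 (star (xr r) * qI * xr r).re (t * (star (xr r) * qI * xr r).imI)
      (s * t * (star (xr r) * qI * xr r).imJ) (s * (star (xr r) * qI * xr r).imK) * star (xr r)).imK =
      (-4 * t + 32 * s * t - 28 * s) * r ^ 4 := by
    simp [xr, qI]
    ring
  have ky1 : (yr r * q4 (star (yr r) * qI * yr r).re (t * (star (yr r) * qI * yr r).imI)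
      (s * t * (star (yr r) * qI * yr r).imJ) (s * (star (yr r) * qI * yr r).imK) * star (yr r)).imJ =
      (-28 * t - 4 * s * t + 32 * s) * r ^ 4 := by
    simp [yr, qI]
    ring
  have ky2 : (yr r * q4 (star (yr r) * qI * yr r).re (t * (star (yr r) * qI * yr r).imI)
      (s * t * (star (yr r) * qI * yr r).imJ) (s * (star (yr r) * qI * yr r).imK) * star (yr r)).imK =
      (28 * t - 32 * s * t + 4 * s) * r ^ 4 := by
    simp [yr, qI]
    ring
  rw [kx1, kx2] at hx0
  rw [ky1, ky2] at hy0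
  clear kx1 kx2 ky1 ky2 x0 y0
  have hr4 : r ^ 4 ≠ 0 := pow_ne_zero 4 hr0
  rcases sq_cases hs with rfl | rfl <;> rcases sq_cases ht with rfl | rfl
  · apply Equiv.ext
    intro X
    obtain ⟨z, rfl⟩ := e.surjective X
    rw [← heF, hFz]
    change e _ = e z
    congr 1
    ext <;> simp
  · exfalso
    apply mul_ne_zero (mul_ne_zero h64 hr4) (mul_ne_zero h8 hr4)
    linear_combination hy0
  · exfalso
    apply mul_ne_zero (mul_ne_zero h16 hr4) (mul_ne_zero (neg_ne_zero.2 h8) hr4)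
    linear_combination hx0
  · exfalso
    apply mul_ne_zero (mul_ne_zero h16 hr4) (mul_ne_zero h64 hr4)
    linear_combination hx0

end Prime

end Cfsg.Agent.H173.FC
end

-- part: H173/FC/C6Two
section
/-!
# S5764, L-C6, n = 2 (helper173): `StmtC6` in dimension 2
-/

set_option autoImplicit false

namespace Cfsg.Agent.H173.FC

open Quaternion Cfsg.Agent.H198.FC

universe u v

variable {K : Type u} [Field K] {V : Type v} [AddCommGroup V] [Module K V]

theorem central [Module.Finite K V] (hV : Module.finrank K V = 2) {x : R K V} (h : ∀ y : R K V, x * y = y * x) :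
    ∃ c : K, x = c • (1 : R K V) := by
  let b : Module.Basis (Fin 2) K V := Module.finBasisOfFinrankEq K V hV
  obtain ⟨a, ha⟩ := LinearMap.commute_transvections_iff_of_basis b (f := x) fun i j r _ => h _
  exact ⟨(a : K), ha⟩

theorem cj_eq_iff [Module.Finite K V] (hV : Module.finrank K V = 2) {x y : (R K V)ˣ} (h : cj K V x = cj K V y) :
    ∃ c : K, c ≠ 0 ∧ (x : R K V) = c • (y : R K V) := by
  have h1 : ∀ X : R K V, ((y⁻¹ * x : (R K V)ˣ) : R K V) * X = X * ((y⁻¹ * x : (R K V)ˣ) : R K V) := by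
    intro X
    have h2 := DFunLike.congr_fun h X
    rw [cj_apply, cj_apply] at h2
    have h3 : (y⁻¹ : (R K V)ˣ) * ((x : R K V) * X * (x⁻¹ : (R K V)ˣ)) * x = (y⁻¹ : (R K V)ˣ) * ((y : R K V) * X * (y⁻¹ : (R K V)ˣ)) * x := by
      rw [h2]
    rw [Units.val_mul]
    simpa [mul_assoc] using h3
  obtain ⟨c, hc⟩ := central hV h1
  have h2 : (x : R K V) = c • (y : R K V) := by
    have : (y : R K V) * ((y⁻¹ * x : (R K V)ˣ) : R K V) = y * (c • (1 : R K V)) := by rw [hc]
    rw [Units.val_mul, ← mul_assoc, Units.mul_inv, one_mul, mul_smul_comm, mul_one] at this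
    exact this
  refine ⟨c, ?_, h2⟩
  rintro rfl
  rw [zero_smul] at h2
  have : Nontrivial V := Module.nontrivial_of_finrank_pos (R := K) (by omega)
  exact x.ne_zero h2

theorem cj_smul {x y : (R K V)ˣ} {c : K} (hc : c ≠ 0) (h : (x : R K V) = c • (y : R K V)) : cj K V x = cj K V y := by
  have hi : ((x⁻¹ : (R K V)ˣ) : R K V) = c⁻¹ • ((y⁻¹ : (R K V)ˣ) : R K V) := by
    apply Units.inv_eq_of_mul_eq_one_right
    rw [h, smul_mul_smul_comm, mul_inv_cancel₀ hc, Units.mul_inv, one_smul]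
  apply Equiv.ext
  intro X
  rw [cj_apply, cj_apply, h, hi, smul_mul_assoc, smul_mul_assoc, mul_smul_comm, smul_smul, mul_inv_cancel₀ hc, one_smul]

/-- conjugation of `cj x` by a ring automorphism -/
theorem conj_cj {f : Equiv.Perm (R K V)} (hf : f ∈ RP K V) (x x' : (R K V)ˣ) (hx : (x' : R K V) = f (x : R K V)) :
    f * cj K V x * f⁻¹ = cj K V x' := by
  have hi : ((x'⁻¹ : (R K V)ˣ) : R K V) = f ((x⁻¹ : (R K V)ˣ) : R K V) := by
    rw [← Units.mul_right_inj x', Units.mul_inv, hx, ← hf.2, Units.mul_inv, rp_one hf]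
  apply Equiv.ext
  intro X
  rw [Equiv.Perm.mul_apply, Equiv.Perm.mul_apply, cj_apply, cj_apply, hf.2, hf.2, hx, hi]
  congr 2
  exact Equiv.apply_symm_apply f X


/-- the data of the group `A` of order 4 -/
structure Four (A : Subgroup (Equiv.Perm (R K V))) : Prop where
  le : A ≤ IN K V
  card : Nat.card A = 4
  sq : ∀ f ∈ A, f * f = 1
  comm : ∀ f ∈ A, ∀ g ∈ A, f * g = g * f
  span : Submodule.span K {X : R K V | ∃ x : (R K V)ˣ, (x : R K V) = X ∧ cj K V x ∈ A} = ⊤

theorem Four.cases {A : Subgroup (Equiv.Perm (R K V))} (D : Four A) {f g : Equiv.Perm (R K V)} (hf : f ∈ A)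
    (hg : g ∈ A) (hf1 : f ≠ 1) (hg1 : g ≠ 1) (hfg : f ≠ g) : ∀ h ∈ A, h = 1 ∨ h = f ∨ h = g ∨ h = f * g := by
  classical
  intro h hh
  have hfin : Finite A := Nat.finite_of_card_ne_zero (by rw [D.card]; norm_num)
  by_contra hne
  push Not at hne
  obtain ⟨n1, n2, n3, n4⟩ := hne
  have e1 : f * g ≠ 1 := by
    intro h'
    apply hfg
    have := D.sq f hf
    exact mul_left_cancel (this.trans h'.symm)
  have e2 : f * g ≠ f := fun h' => hg1 (mul_eq_left.1 h')
  have e3 : f * g ≠ g := fun h' => hf1 (mul_eq_right.1 h')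
  let T : Finset (Equiv.Perm (R K V)) := {1, f, g, f * g, h}
  have hT : T.card = 5 := by
    have : T = insert 1 (insert f (insert g (insert (f * g) {h}))) := rfl
    rw [this, Finset.card_insert_of_notMem, Finset.card_insert_of_notMem, Finset.card_insert_of_notMem,
      Finset.card_insert_of_notMem, Finset.card_singleton]
    · simp only [Finset.mem_singleton]
      exact fun h' => n4 h'.symm
    · simp only [Finset.mem_insert, Finset.mem_singleton, not_or]
      exact ⟨fun h' => e3 h'.symm, fun h' => n3 h'.symm⟩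
    · simp only [Finset.mem_insert, Finset.mem_singleton, not_or]
      exact ⟨hfg, fun h' => e2 h'.symm, fun h' => n2 h'.symm⟩
    · simp only [Finset.mem_insert, Finset.mem_singleton, not_or]
      exact ⟨fun h' => hf1 h'.symm, fun h' => hg1 h'.symm, fun h' => e1 h'.symm, fun h' => n1 h'.symm⟩
  have hsub : (T : Set (Equiv.Perm (R K V))) ⊆ (A : Set (Equiv.Perm (R K V))) := by
    intro k hk
    simp only [T, Finset.coe_insert, Finset.coe_singleton, Set.mem_insert_iff, Set.mem_singleton_iff] at hk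
    rcases hk with rfl | rfl | rfl | rfl | rfl
    · exact one_mem _
    · exact hf
    · exact hg
    · exact mul_mem hf hg
    · exact hh
  have hc := Set.ncard_le_ncard hsub (Set.toFinite _)
  rw [Set.ncard_coe_finset, hT] at hc
  have : (A : Set (Equiv.Perm (R K V))).ncard = 4 := by
    rw [← D.card]
    rfl
  omega

/-- lifts of different elements anticommute -/
theorem Four.anti [Module.Finite K V] (hV : Module.finrank K V = 2) {A : Subgroup (Equiv.Perm (R K V))} (D : Four A)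
    {x y : (R K V)ˣ} (hf : cj K V x ∈ A) (hg : cj K V y ∈ A) (hf1 : cj K V x ≠ 1) (hg1 : cj K V y ≠ 1)
    (hfg : cj K V x ≠ cj K V y) : (x : R K V) * y = -((y : R K V) * x) ∧ (2 : K) ≠ 0 := by
  have hnt : Nontrivial V := Module.nontrivial_of_finrank_pos (R := K) (by omega)
  have h1 : cj K V (x * y) = cj K V (y * x) := by
    rw [map_mul, map_mul, D.comm _ hf _ hg]
  obtain ⟨c, hc0, hc⟩ := cj_eq_iff hV h1
  rw [Units.val_mul, Units.val_mul] at hc
  have h2 : cj K V (x * x) = cj K V 1 := by rw [map_mul, D.sq _ hf, map_one]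
  obtain ⟨α, hα0, hα⟩ := cj_eq_iff hV h2
  rw [Units.val_mul, Units.val_one] at hα
  have hc1 : c ≠ 1 := by
    rintro rfl
    rw [one_smul] at hc
    apply hf1
    -- `x` commutes with all lifts
    have hall : ∀ X : R K V, (x : R K V) * X = X * x := by
      intro X
      have hX : X ∈ Submodule.span K {X : R K V | ∃ x : (R K V)ˣ, (x : R K V) = X ∧ cj K V x ∈ A} := by
        rw [D.span]
        trivial
      induction hX using Submodule.span_induction with
      | mem X hX =>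
        obtain ⟨z, rfl, hz⟩ := hX
        have key : ∀ w : (R K V)ˣ, (x : R K V) * w = w * x → cj K V z = cj K V w → (x : R K V) * z = z * x := by
          intro w hw he
          obtain ⟨d, hd0, hd⟩ := cj_eq_iff hV he
          rw [hd, mul_smul_comm, smul_mul_assoc, hw]
        rcases D.cases hf hg hf1 hg1 hfg _ hz with h | h | h | h
        · exact key 1 (by simp) (by rw [h, map_one])
        · exact key x rfl h
        · exact key y hc h
        · refine key (x * y) ?_ (by rw [h, map_mul])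
          rw [Units.val_mul, mul_assoc, hc]
      | zero => simp
      | add a b _ _ ha hb => rw [mul_add, add_mul, ha, hb]
      | smul t a _ ha => rw [mul_smul_comm, smul_mul_assoc, ha]
    apply Equiv.ext
    intro X
    rw [cj_apply, hall X, mul_assoc, Units.mul_inv, mul_one]
    rfl
  have hcc : c * c = 1 := by
    have e1 : (x : R K V) * (x * y) = (c * c) • ((y : R K V) * (x * x)) := by
      rw [hc, mul_smul_comm, ← mul_assoc, hc, smul_mul_assoc, smul_smul, mul_assoc]
    rw [← mul_assoc, hα, smul_mul_assoc, one_mul, mul_smul_comm, mul_one, smul_smul] at e1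
    have e2 : (α - c * c * α) • (y : R K V) = 0 := by rw [sub_smul, ← e1, sub_self]
    rcases smul_eq_zero.1 e2 with h | h
    · have : α * (1 - c * c) = 0 := by linear_combination h
      rcases mul_eq_zero.1 this with h' | h'
      · exact absurd h' hα0
      · exact (sub_eq_zero.1 h').symm
    · exact absurd h y.ne_zero
  have hcm : c = -1 := by
    have : (c - 1) * (c + 1) = 0 := by linear_combination hcc
    rcases mul_eq_zero.1 this with h' | h'
    · exact absurd (sub_eq_zero.1 h') hc1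
    · exact eq_neg_of_add_eq_zero_left h'
  subst hcm
  refine ⟨by rw [hc, neg_smul, one_smul], fun h => hc1 ?_⟩
  linear_combination -h


theorem rp_neg_one {f : Equiv.Perm (R K V)} (hf : f ∈ RP K V) : f (-1) = -1 := by
  have h := hf.1 (-1) 1
  rw [neg_add_cancel, rp_zero hf, rp_one hf] at h
  exact eq_neg_of_add_eq_zero_left h.symm

/-- the unit `f x` -/
def fu {f : Equiv.Perm (R K V)} (hf : f ∈ RP K V) (x : (R K V)ˣ) : (R K V)ˣ :=
  ⟨f x, f (x⁻¹ : (R K V)ˣ), by rw [← hf.2, Units.mul_inv, rp_one hf], by rw [← hf.2, Units.inv_mul, rp_one hf]⟩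

theorem fu_val {f : Equiv.Perm (R K V)} (hf : f ∈ RP K V) (x : (R K V)ˣ) : ((fu hf x : (R K V)ˣ) : R K V) = f x := rfl

/-- every non-trivial element of `A` has a lift with square `-1` -/
theorem Four.exists_lift [Finite K] [Module.Finite K V] (hV : Module.finrank K V = 2) {A : Subgroup (Equiv.Perm (R K V))}
    (D : Four A) {S : Subgroup (Equiv.Perm (R K V))} (hS : S ≤ RP K V) (hnorm : ∀ g ∈ S, ∀ f ∈ A, g * f * g⁻¹ ∈ A)
    (hmin : ∀ B : Subgroup (Equiv.Perm (R K V)), B ≤ A → (∀ g ∈ S, ∀ f ∈ B, g * f * g⁻¹ ∈ B) → B = ⊥ ∨ B = A) :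
    ∀ f ∈ A, f ≠ 1 → ∃ x : (R K V)ˣ, cj K V x = f ∧ (x : R K V) * x = -1 := by
  classical
  have hnt : Nontrivial V := Module.nontrivial_of_finrank_pos (R := K) (by omega)
  let B : Subgroup (Equiv.Perm (R K V)) :=
    { carrier := {h | h ∈ A ∧ (h = 1 ∨ ∃ x : (R K V)ˣ, cj K V x = h ∧ (x : R K V) * x = -1)}
      one_mem' := ⟨one_mem _, Or.inl rfl⟩
      inv_mem' := by
        rintro h ⟨hA, hh⟩
        have hi : h⁻¹ = h := by
          rw [inv_eq_iff_mul_eq_one]
          exact D.sq h hA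
        change h⁻¹ ∈ A ∧ _
        rw [hi]
        exact ⟨hA, hh⟩
      mul_mem' := by
        rintro f g ⟨hf, hf'⟩ ⟨hg, hg'⟩
        refine ⟨mul_mem hf hg, ?_⟩
        by_cases hf1 : f = 1
        · rw [hf1, one_mul]
          exact hg'
        by_cases hg1 : g = 1
        · rw [hg1, mul_one]
          exact hf'
        by_cases hfg : f = g
        · left
          rw [hfg]
          exact D.sq g hg
        right
        obtain ⟨x, rfl, hx⟩ := hf'.resolve_left hf1
        obtain ⟨y, rfl, hy⟩ := hg'.resolve_left hg1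
        obtain ⟨ha, _⟩ := D.anti hV hf hg hf1 hg1 hfg
        refine ⟨x * y, map_mul _ _ _, ?_⟩
        rw [Units.val_mul]
        have ha' : (y : R K V) * x = -((x : R K V) * y) := by rw [ha, neg_neg]
        calc (x : R K V) * y * (x * y) = x * (y * x) * y := by simp only [mul_assoc]
          _ = -1 := by
            rw [ha', mul_neg, ← mul_assoc, hx]
            simp only [neg_mul, one_mul, neg_neg]
            exact hy }
  have hBA : B ≤ A := fun h hh => hh.1
  have hBn : ∀ g ∈ S, ∀ f ∈ B, g * f * g⁻¹ ∈ B := by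
    rintro g hg f ⟨hf, hf'⟩
    refine ⟨hnorm g hg f hf, ?_⟩
    rcases hf' with rfl | ⟨x, rfl, hx⟩
    · left
      rw [mul_one, mul_inv_cancel]
    · right
      refine ⟨fu (hS hg) x, (conj_cj (hS hg) x _ (fu_val _ _)).symm, ?_⟩
      rw [fu_val, ← (hS hg).2, hx, rp_neg_one (hS hg)]
  rcases hmin B hBA hBn with hB | hB
  · exfalso
    -- two elements
    have hfin : Finite A := Nat.finite_of_card_ne_zero (by rw [D.card]; norm_num)
    have h1 : ∃ f ∈ A, f ≠ 1 := by
      by_contra hne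
      push Not at hne
      have : A = ⊥ := (Subgroup.eq_bot_iff_forall A).2 hne
      have h2 := D.card
      rw [this, Subgroup.card_bot] at h2
      omega
    obtain ⟨f, hf, hf1⟩ := h1
    have h2 : ∃ g ∈ A, g ≠ 1 ∧ g ≠ f := by
      by_contra hne
      push Not at hne
      have hsub : (A : Set (Equiv.Perm (R K V))) ⊆ {1, f} := by
        intro g hg
        by_cases hg1 : g = 1
        · exact Or.inl hg1
        · exact Or.inr (hne g hg hg1)
      have hc := Set.ncard_le_ncard hsub (Set.toFinite _)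
      have h3 : (A : Set (Equiv.Perm (R K V))).ncard = 4 := by
        rw [← D.card]
        rfl
      have h4 := Set.ncard_insert_le 1 ({f} : Set (Equiv.Perm (R K V)))
      rw [Set.ncard_singleton] at h4
      omega
    obtain ⟨g, hg, hg1, hgf⟩ := h2
    obtain ⟨x, rfl⟩ := D.le hf
    obtain ⟨y, rfl⟩ := D.le hg
    obtain ⟨ha, h2⟩ := D.anti hV hf hg hf1 hg1 hgf.symm
    have hno : ∀ z : (R K V)ˣ, cj K V z ∈ A → cj K V z ≠ 1 → ∀ c : K, (z : R K V) * z = c • (1 : R K V) → ¬ IsSquare (-c) := by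
      rintro z hz hz1 c hc ⟨s, hs⟩
      have hs0 : s ≠ 0 := by
        rintro rfl
        rw [mul_zero] at hs
        rw [neg_eq_zero.1 hs, zero_smul] at hc
        exact (z * z).ne_zero (by rw [Units.val_mul]; exact hc)
      have hzz : (z : R K V) = s • (s⁻¹ • (z : R K V)) := by rw [smul_smul, mul_inv_cancel₀ hs0, one_smul]
      let w : (R K V)ˣ := ⟨s⁻¹ • (z : R K V), s • ((z⁻¹ : (R K V)ˣ) : R K V), by
        rw [smul_mul_smul_comm, inv_mul_cancel₀ hs0, Units.mul_inv, one_smul], by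
        rw [smul_mul_smul_comm, mul_inv_cancel₀ hs0, Units.inv_mul, one_smul]⟩
      have hw : cj K V z = cj K V w := cj_smul hs0 hzz
      have hB' : cj K V z ∈ B := by
        refine ⟨hz, Or.inr ⟨w, hw.symm, ?_⟩⟩
        change (s⁻¹ • (z : R K V)) * (s⁻¹ • (z : R K V)) = -1
        rw [smul_mul_smul_comm, hc, smul_smul]
        have : s⁻¹ * s⁻¹ * c = -1 := by
          have : c = -(s * s) := by rw [← hs, neg_neg]
          rw [this]
          field_simp
        rw [this, neg_smul, one_smul]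
      rw [hB] at hB'
      exact hz1 (Subgroup.mem_bot.1 hB')
    have hsq : ∀ z : (R K V)ˣ, cj K V z ∈ A → ∃ c : K, c ≠ 0 ∧ (z : R K V) * z = c • (1 : R K V) := by
      intro z hz
      have h3 : cj K V (z * z) = cj K V 1 := by rw [map_mul, D.sq _ hz, map_one]
      obtain ⟨c, hc0, hc⟩ := cj_eq_iff hV h3
      exact ⟨c, hc0, by rw [← Units.val_mul, hc, Units.val_one]⟩
    obtain ⟨α, hα0, hα⟩ := hsq x hf
    obtain ⟨β, hβ0, hβ⟩ := hsq y hg
    have hxy : ((x * y : (R K V)ˣ) : R K V) * ((x * y : (R K V)ˣ) : R K V) = (-(α * β)) • (1 : R K V) := by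
      have ha' : (y : R K V) * x = -((x : R K V) * y) := by rw [ha, neg_neg]
      rw [Units.val_mul]
      calc (x : R K V) * y * (x * y) = x * (y * x) * y := by simp only [mul_assoc]
        _ = _ := by
          rw [ha', mul_neg, ← mul_assoc, hα, smul_mul_assoc, one_mul, neg_mul, smul_mul_assoc, hβ, smul_smul, neg_smul]
    have hxyA : cj K V (x * y) ∈ A := by
      rw [map_mul]
      exact mul_mem hf hg
    have hxy1 : cj K V (x * y) ≠ 1 := by
      rw [map_mul]
      intro h'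
      exact hgf (mul_left_cancel ((D.sq _ hf).trans h'.symm)).symm
    have n1 := hno x hf hf1 α hα
    have n2 := hno y hg hg1 β hβ
    have n3 := hno (x * y) hxyA hxy1 _ hxy
    rw [neg_neg] at n3
    have : Fintype K := Fintype.ofFinite K
    rw [← quadraticChar_neg_one_iff_not_isSquare] at n1 n2 n3
    have h5 : quadraticChar K (α * β) = quadraticChar K (-α) * quadraticChar K (-β) := by
      rw [← map_mul, neg_mul_neg]
    rw [n1, n2, n3] at h5
    norm_num at h5
  · intro f hf hf1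
    rw [← hB] at hf
    exact hf.2.resolve_left hf1


/-- `i`, `j` generate a quaternion algebra -/
theorem exists_e [Finite K] [Module.Finite K V] (hV : Module.finrank K V = 2) {A : Subgroup (Equiv.Perm (R K V))}
    (D : Four A) {x y : (R K V)ˣ} (hf : cj K V x ∈ A) (hg : cj K V y ∈ A) (hf1 : cj K V x ≠ 1) (hg1 : cj K V y ≠ 1)
    (hfg : cj K V x ≠ cj K V y) (hx : (x : R K V) * x = -1) (hy : (y : R K V) * y = -1) :
    ∃ e : ℍ[K] ≃ₐ[K] R K V, e qI = x ∧ e qJ = y ∧ e qK = x * y := by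
  obtain ⟨ha, h2⟩ := D.anti hV hf hg hf1 hg1 hfg
  let q : QuaternionAlgebra.Basis (R K V) (-1 : K) 0 (-1) :=
    { i := x
      j := y
      k := x * y
      i_mul_i := by rw [hx, zero_smul, add_zero, neg_smul, one_smul]
      j_mul_j := by rw [hy, neg_smul, one_smul]
      i_mul_j := rfl
      j_mul_i := by rw [ha, zero_smul, zero_sub, neg_neg] }
  let φ : ℍ[K] →ₐ[K] R K V := q.liftHom
  have hφ : ∀ z : ℍ[K], φ z = algebraMap K _ z.re + z.imI • (x : R K V) + z.imJ • (y : R K V) + z.imK • ((x : R K V) * y) :=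
    fun z => rfl
  have hI : φ qI = x := by rw [hφ]; simp [qI]
  have hJ : φ qJ = y := by rw [hφ]; simp [qJ]
  have hK : φ qK = x * y := by rw [hφ]; simp [qK]
  have hsurj : Function.Surjective φ.toLinearMap := by
    rw [← LinearMap.range_eq_top, eq_top_iff, ← D.span, Submodule.span_le]
    rintro X ⟨z, rfl, hz⟩
    have key : ∀ (w : (R K V)ˣ) (z' : ℍ[K]), φ z' = w → cj K V z = cj K V w → (z : R K V) ∈ LinearMap.range φ.toLinearMap := by
      intro w z' hw he
      obtain ⟨c, hc0, hc⟩ := cj_eq_iff hV he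
      refine ⟨c • z', ?_⟩
      rw [AlgHom.toLinearMap_apply, map_smul, hw, hc]
    rcases D.cases hf hg hf1 hg1 hfg _ hz with h | h | h | h
    · exact key 1 1 (by rw [map_one, Units.val_one]) (by rw [h, map_one])
    · exact key x qI hI h
    · exact key y qJ hJ h
    · exact key (x * y) qK hK (by rw [h, map_mul])
  have hdim : Module.finrank K ℍ[K] = Module.finrank K (R K V) := by
    rw [Quaternion.finrank_eq_four, Module.finrank_linearMap, hV]
  have hinj : Function.Injective φ.toLinearMap :=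
    (LinearMap.injective_iff_surjective_of_finrank_eq_finrank hdim).2 hsurj
  exact ⟨AlgEquiv.ofBijective φ ⟨hinj, hsurj⟩, hI, hJ, hK⟩

theorem ctx [Finite K] [Module.Finite K V] (hV : Module.finrank K V = 2) {A : Subgroup (Equiv.Perm (R K V))}
    (D : Four A) {S : Subgroup (Equiv.Perm (R K V))} (hS : S ≤ RP K V) (hnorm : ∀ g ∈ S, ∀ f ∈ A, g * f * g⁻¹ ∈ A)
    (hmin : ∀ B : Subgroup (Equiv.Perm (R K V)), B ≤ A → (∀ g ∈ S, ∀ f ∈ B, g * f * g⁻¹ ∈ B) → B = ⊥ ∨ B = A) :
    (2 : K) ≠ 0 ∧ ∃ e : ℍ[K] ≃ₐ[K] R K V, Ctx e S := by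
  have hnt : Nontrivial V := Module.nontrivial_of_finrank_pos (R := K) (by omega)
  have hfin : Finite A := Nat.finite_of_card_ne_zero (by rw [D.card]; norm_num)
  have h1 : ∃ f ∈ A, f ≠ 1 := by
    by_contra hne
    push Not at hne
    have : A = ⊥ := (Subgroup.eq_bot_iff_forall A).2 hne
    have h2 := D.card
    rw [this, Subgroup.card_bot] at h2
    omega
  obtain ⟨f, hf, hf1⟩ := h1
  have h2 : ∃ g ∈ A, g ≠ 1 ∧ f ≠ g := by
    by_contra hne
    push Not at hne
    have hsub : (A : Set (Equiv.Perm (R K V))) ⊆ {1, f} := by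
      intro g hg
      by_cases hg1 : g = 1
      · exact Or.inl hg1
      · exact Or.inr (hne g hg hg1).symm
    have hc := Set.ncard_le_ncard hsub (Set.toFinite _)
    have h3 : (A : Set (Equiv.Perm (R K V))).ncard = 4 := by
      rw [← D.card]
      rfl
    have h4 := Set.ncard_insert_le 1 ({f} : Set (Equiv.Perm (R K V)))
    rw [Set.ncard_singleton] at h4
    omega
  obtain ⟨g, hg, hg1, hfg⟩ := h2
  obtain ⟨x, rfl, hx⟩ := D.exists_lift hV hS hnorm hmin f hf hf1
  obtain ⟨y, rfl, hy⟩ := D.exists_lift hV hS hnorm hmin g hg hg1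
  obtain ⟨ha, h2⟩ := D.anti hV hf hg hf1 hg1 hfg
  obtain ⟨e, hI, hJ, hK⟩ := exists_e hV D hf hg hf1 hg1 hfg hx hy
  refine ⟨h2, e, hS, ?_⟩
  have hxy1 : cj K V (x * y) ≠ 1 := by
    rw [map_mul]
    intro h'
    exact hfg (mul_left_cancel ((D.sq _ hf).trans h'.symm))
  have hxy : ((x * y : (R K V)ˣ) : R K V) * ((x * y : (R K V)ˣ) : R K V) = -1 := by
    have ha' : (y : R K V) * x = -((x : R K V) * y) := by rw [ha, neg_neg]
    rw [Units.val_mul]
    calc (x : R K V) * y * (x * y) = x * (y * x) * y := by simp only [mul_assoc]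
      _ = -1 := by
        rw [ha', mul_neg, ← mul_assoc, hx]
        simp only [neg_mul, one_mul, neg_neg]
        exact hy
  -- the general step
  have key : ∀ k ∈ S, ∀ u : (R K V)ˣ, cj K V u ∈ A → cj K V u ≠ 1 → (u : R K V) * u = -1 → IsQ (e.symm (k (u : R K V))) := by
    intro k hk u hu hu1 huu
    have h3 : cj K V (fu (hS hk) u) ∈ A := by
      rw [← conj_cj (hS hk) u _ (fu_val _ _)]
      exact hnorm k hk _ hu
    have h4 : cj K V (fu (hS hk) u) ≠ 1 := by
      rw [← conj_cj (hS hk) u _ (fu_val _ _)]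
      intro h'
      apply hu1
      rw [mul_inv_eq_one, mul_eq_left] at h'
      exact h'
    have h5 : k (u : R K V) * k (u : R K V) = -1 := by
      rw [← (hS hk).2, huu, rp_neg_one (hS hk)]
    have fin : ∀ (w : (R K V)ˣ) (v : ℍ[K]), e v = w → (w : R K V) * w = -1 →
        (v = qI ∨ v = qJ ∨ v = qK) → cj K V (fu (hS hk) u) = cj K V w → IsQ (e.symm (k (u : R K V))) := by
      intro w v hw hww hv he
      obtain ⟨c, hc0, hc⟩ := cj_eq_iff hV he
      rw [fu_val] at hc
      rw [hc, smul_mul_smul_comm, hww] at h5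
      have h6 : c ^ 2 = 1 := by
        have h7 : (c * c - 1) • (1 : R K V) = 0 := by
          rw [sub_smul, one_smul, sub_eq_zero]
          rw [smul_neg, neg_inj] at h5
          exact h5
        rcases smul_eq_zero.1 h7 with h | h
        · linear_combination h
        · exact absurd h one_ne_zero
      have h8 : e.symm (k (u : R K V)) = c • v := by
        rw [hc, map_smul, ← hw, AlgEquiv.symm_apply_apply]
      rw [h8]
      rcases hv with rfl | rfl | rfl
      · exact ⟨by simp [qI], Or.inl ⟨by simpa [qI] using h6, by simp [qI], by simp [qI]⟩⟩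
      · exact ⟨by simp [qJ], Or.inr (Or.inl ⟨by simp [qJ], by simpa [qJ] using h6, by simp [qJ]⟩)⟩
      · exact ⟨by simp [qK], Or.inr (Or.inr ⟨by simp [qK], by simp [qK], by simpa [qK] using h6⟩)⟩
    rcases D.cases hf hg hf1 hg1 hfg _ h3 with h | h | h | h
    · exact absurd h h4
    · exact fin x qI hI hx (Or.inl rfl) h
    · exact fin y qJ hJ hy (Or.inr (Or.inl rfl)) h
    · exact fin (x * y) qK hK hxy (Or.inr (Or.inr rfl)) (by rw [h, map_mul])
  intro k hk v hv
  rcases hv with rfl | rfl | rfl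
  · rw [hI]
    exact key k hk x hf hf1 hx
  · rw [hJ]
    exact key k hk y hg hg1 hy
  · rw [hK, ← Units.val_mul]
    refine key k hk (x * y) ?_ hxy1 hxy
    rw [map_mul]
    exact mul_mem hf hg

/-- **L-C6 in dimension 2** -/
theorem stmtC6_two (K : Type u) [Field K] [Finite K] (V : Type v) [AddCommGroup V] [Module K V] [Module.Finite K V]
    (S : Subgroup (Equiv.Perm (R K V))) (hV : Module.finrank K V = 2) (hS : S ≤ RP K V) (hq : 4 ≤ Nat.card K)
    (A : Subgroup (Equiv.Perm (R K V))) (r a : ℕ) (hC : C6Data S A r a) : Five S := by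
  obtain ⟨hr, ha, hn, hAS, hAI, hcard, hexp, hcomm, hspan, hnorm, hmin⟩ := hC
  rw [hV] at hn
  have hr2 : r = 2 := (Nat.prime_dvd_prime_iff_eq hr Nat.prime_two).1 (by rw [hn]; exact dvd_pow_self r (by omega))
  subst hr2
  have ha1 : a = 1 := by
    have : 2 ^ 1 = 2 ^ a := by rw [← hn, pow_one]
    exact (Nat.pow_right_injective le_rfl this).symm
  subst ha1
  have D : Four A :=
    { le := hAI
      card := hcard
      sq := fun f hf => by rw [← pow_two]; exact hexp f hf
      comm := hcomm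
      span := hspan }
  obtain ⟨h2, e, C⟩ := ctx hV D hS hnorm hmin
  obtain ⟨p, hp⟩ := CharP.exists K
  have hpp : p.Prime := CharP.char_is_prime K p
  have hpf : Fact p.Prime := ⟨hpp⟩
  by_cases hP : ∀ a : K, a ∈ PF (K := K) p
  · refine five_prime hV p C h2 ?_ hP
    intro h3
    -- `|K| ≤ p`
    have hle : Nat.card K ≤ p := by
      have hs : Function.Surjective (ZMod.castHom (dvd_refl p) K) := fun a => by
        have := hP a
        unfold PF at this
        exact RingHom.mem_fieldRange.1 this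
      have := Nat.card_le_card_of_surjective _ hs
      rwa [Nat.card_zmod] at this
    have hp3 : p ∣ 3 := (CharP.cast_eq_zero_iff K p 3).1 (by exact_mod_cast h3)
    have := Nat.le_of_dvd (by norm_num) hp3
    omega
  · push Not at hP
    obtain ⟨a, ha⟩ := hP
    obtain ⟨g, hg⟩ := IsCyclic.exists_generator (α := Kˣ)
    have hgen : ∀ a : K, a ≠ 0 → ∃ n : ℕ, a = (g : K) ^ n := by
      intro a ha0
      have h3 := hg (Units.mk0 a ha0)
      rw [← mem_powers_iff_mem_zpowers] at h3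
      obtain ⟨n, hn⟩ := h3
      refine ⟨n, ?_⟩
      have := congrArg (Units.val) hn
      simpa using this.symm
    refine five_big hV p C h2 (γ := (g : K)) ?_ hgen
    intro hgP
    apply ha
    rcases eq_or_ne a 0 with rfl | ha0
    · exact zero_mem _
    · obtain ⟨n, rfl⟩ := hgen a ha0
      exact pow_mem hgP n

/-- **L-C6 in dimension 2**, in the form of `StmtC6` -/
theorem stmtC6_two' : ∀ (K : Type u) [Field K] [Finite K] (V : Type v) [AddCommGroup V] [Module K V] [Module.Finite K V]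
    (S : Subgroup (Equiv.Perm (R K V))), S ≤ RA K V → (Module.finrank K V = 2 → S ≤ RP K V ∧ 4 ≤ Nat.card K) →
    Group.IsSolvable S →
    ∀ (A : Subgroup (Equiv.Perm (R K V))) (r a : ℕ), C6Data S A r a → Module.finrank K V = 2 → Five S :=
  fun K _ _ V _ _ _ S _ h _ A r a hC hV => stmtC6_two K V S hV (h hV).1 (h hV).2 A r a hC

end Cfsg.Agent.H173.FC
end

-- part: H173/FC/C6TwoOn
section
/-! # S5764 (helper173): the C6 case in dimension 2, in the form of the hub -/

set_option autoImplicit false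

namespace Cfsg.Agent.H173.FC

universe u v

theorem stmtC6On_two : Cfsg.Agent.H786.FC.StmtC6On.{u, v} (fun n => n = 2) :=
  fun K _ _ V _ _ _ S hS h hs A r a hC hV => stmtC6_two'.{u, v} K V S hS h hs A r a hC hV

end Cfsg.Agent.H173.FC
end

-- part: H976/FC/Lift
section
/-!
# S5764, C4: from matrices to `End_K(V)` (helper976)
-/

set_option autoImplicit false

open Matrix
open scoped Kronecker

namespace Cfsg.Agent.H976.FC

open Cfsg.Agent.H198.FC

universe u v

section lift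

variable {K : Type u} [Field K] {V : Type v} [AddCommGroup V] [Module K V]

theorem Cl_neg_right (b : Cl K V) (v w : V) : b.B v (-w) = -b.B v w := by
  have h1 := b.smul_right (-1) v w
  rw [neg_one_smul, map_neg, map_one, neg_one_mul] at h1
  exact h1

theorem Cl_zero_right (b : Cl K V) (v : V) : b.B v 0 = 0 := by
  have h1 := b.smul_right 0 v 0
  rw [zero_smul, map_zero, zero_mul] at h1
  exact h1

theorem Cl_neg_left (b : Cl K V) (v w : V) : b.B (-v) w = -b.B v w := by
  have h1 := b.smul_left (-1) v w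
  rw [neg_one_smul, neg_one_mul] at h1
  exact h1

theorem Cl_zero_left (b : Cl K V) (w : V) : b.B 0 w = 0 := by
  have h1 := b.smul_left 0 0 w
  rw [zero_smul, zero_mul] at h1
  exact h1

theorem isom_of_skew (b : Cl K V) (Z : R K V) (hZ : b.Adj Z (-Z)) (hZ2 : Z * Z = 0) : b.Isom (1 + Z) := by
  intro v w
  have h1 : ∀ v w, b.B (Z v) w = -b.B v (Z w) := by
    intro v w
    rw [hZ v w]
    exact Cl_neg_right b v (Z w)
  have h2 : Z (Z w) = 0 := by
    have := congrArg (fun X : R K V => X w) hZ2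
    exact this
  show b.B (v + Z v) (w + Z w) = b.B v w
  rw [b.add_left, b.add_right, b.add_right, h1 v w, h1 v (Z w), h2, Cl_zero_right]
  ring

theorem det_one_add [Finite K] [Module.Finite K V] (Z : R K V) (hZ2 : Z * Z = 0) : LinearMap.det (1 + Z) = 1 := by
  obtain ⟨p, hp⟩ := CharP.exists K
  have hpp : p.Prime := (CharP.char_is_prime_or_zero K p).resolve_right (CharP.char_ne_zero_of_finite K p)
  have : Fact p.Prime := ⟨hpp⟩
  have hpow : ∀ k : ℕ, (1 + Z) ^ k = 1 + (k : K) • Z := by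
    intro k
    induction k with
    | zero => simp
    | succ k ih =>
      rw [pow_succ, ih, add_mul, one_mul, mul_add, mul_one, smul_mul_assoc, hZ2, smul_zero, add_zero, Nat.cast_succ,
        add_smul, one_smul]
      abel
  have h1 : (1 + Z) ^ p = 1 := by rw [hpow, CharP.cast_eq_zero, zero_smul, add_zero]
  have h2 : (LinearMap.det (1 + Z)) ^ p = 1 := by rw [← map_pow, h1, map_one]
  exact frobenius_inj K p (by rw [frobenius_def, h2, map_one])

variable {I : Type} [Fintype I] [DecidableEq I]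

/-- **the four conjugating elements** -/
theorem fiveB_of_rigid [Finite K] [Module.Finite K V] [Nonempty I] {n : ℕ} (b : Cl K V)
    (S : Subgroup (Equiv.Perm (R K V))) (hS : S ≤ RB b)
    (Φ : Matrix (I × (Fin 2 × Fin (n + 1))) (I × (Fin 2 × Fin (n + 1))) K ≃ₐ[K] R K V)
    (hf : ∀ f ∈ S, ∀ B : Matrix I I K, ∃ B' : Matrix I I K, f (Φ (B ⊗ₖ 1)) = Φ (B' ⊗ₖ 1))
    (Bs : Fin 4 → Matrix I I K) (hBs : ∀ i, ∀ s : K, Bs i ≠ s • (1 : Matrix I I K))
    (hskew : ∀ i, b.Adj (Φ (Bs i ⊗ₖ hh 1 i)) (-Φ (Bs i ⊗ₖ hh 1 i)))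
    (rigid : ∀ g : Matrix I I K ≃+* Matrix I I K, (∀ i, ∃ s : K, g (Bs i) = Bs i - s • (1 : Matrix I I K)) →
      ∀ X, g X = X) : FiveB b S := by
  have hZ2 : ∀ i, Φ (Bs i ⊗ₖ hh 1 i) * Φ (Bs i ⊗ₖ hh 1 i) = 0 := by
    intro i
    rw [← map_mul, ← mul_kronecker_mul, hh_sq, kronecker_zero, map_zero]
  let x : Fin 4 → (R K V)ˣ := fun i =>
    { val := 1 + Φ (Bs i ⊗ₖ hh 1 i)
      inv := 1 - Φ (Bs i ⊗ₖ hh 1 i)
      val_inv := by
        have h1 : ∀ Z : R K V, (1 + Z) * (1 - Z) = 1 - Z * Z := by intro Z; noncomm_ring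
        rw [h1, hZ2, sub_zero]
      inv_val := by
        have h1 : ∀ Z : R K V, (1 - Z) * (1 + Z) = 1 - Z * Z := by intro Z; noncomm_ring
        rw [h1, hZ2, sub_zero] }
  refine ⟨x, fun i => det_one_add _ (hZ2 i), fun i => isom_of_skew b _ (hskew i) (hZ2 i), ?_⟩
  intro f hfS hfx
  have hfRP := (hS hfS).1
  let f0 : R K V ≃+* R K V := { f with map_mul' := hfRP.2, map_add' := hfRP.1 }
  let F := Φ.toRingEquiv.trans (f0.trans Φ.toRingEquiv.symm)
  have hF : ∀ X, F X = Φ.symm (f (Φ X)) := fun X => rfl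
  have hid := core_id F (fun B => by
      obtain ⟨B', hB'⟩ := hf f hfS B
      exact ⟨B', by rw [hF, hB', AlgEquiv.symm_apply_apply]⟩) Bs hBs (fun i X => by
      obtain ⟨X', hX'⟩ := hf _ (hfx i) X
      refine ⟨X', ?_⟩
      have h1 : (cj K V (x i) * f * (cj K V (x i))⁻¹) (Φ (X ⊗ₖ 1)) =
          (1 + Φ (Bs i ⊗ₖ hh 1 i)) * f ((1 - Φ (Bs i ⊗ₖ hh 1 i)) * Φ (X ⊗ₖ 1) * (1 + Φ (Bs i ⊗ₖ hh 1 i))) *
            (1 - Φ (Bs i ⊗ₖ hh 1 i)) := rfl
      rw [h1] at hX'
      have e1 : (1 - Φ (Bs i ⊗ₖ hh 1 i)) * Φ (X ⊗ₖ 1) * (1 + Φ (Bs i ⊗ₖ hh 1 i)) =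
          Φ ((1 - Bs i ⊗ₖ hh 1 i) * (X ⊗ₖ 1) * (1 + Bs i ⊗ₖ hh 1 i)) := by
        rw [map_mul Φ, map_mul Φ, map_sub Φ, map_add Φ, map_one Φ]
      have e2 : ∀ W : R K V, Φ.symm ((1 + Φ (Bs i ⊗ₖ hh 1 i)) * W * (1 - Φ (Bs i ⊗ₖ hh 1 i))) =
          (1 + Bs i ⊗ₖ hh 1 i) * Φ.symm W * (1 - Bs i ⊗ₖ hh 1 i) := by
        intro W
        rw [map_mul Φ.symm, map_mul Φ.symm, map_sub Φ.symm, map_add Φ.symm, map_one Φ.symm, AlgEquiv.symm_apply_apply]
      rw [e1] at hX'
      have h2 := congrArg Φ.symm hX'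
      rw [e2, AlgEquiv.symm_apply_apply] at h2
      rw [hF]
      exact h2) rigid
  apply Equiv.ext
  intro X
  have h1 := hid (Φ.symm X)
  rw [hF, AlgEquiv.apply_symm_apply] at h1
  exact Φ.symm.injective h1

end lift

end Cfsg.Agent.H976.FC
end

-- part: H976/FC/Gram
section
/-!
# S5764, C4: Gram matrices (helper976)
-/

set_option autoImplicit false

open Matrix
open scoped Kronecker

namespace Cfsg.Agent.H976.FC

open Cfsg.Agent.H198.FC

universe u v

section gram

variable {K : Type u} [Field K] {V : Type v} [AddCommGroup V] [Module K V]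

theorem Cl_sum_left {α : Type*} (b : Cl K V) (s : Finset α) (f : α → V) (w : V) :
    b.B (∑ i ∈ s, f i) w = ∑ i ∈ s, b.B (f i) w := by
  classical
  induction s using Finset.induction_on with
  | empty => simp [Cl_zero_left]
  | insert a s ha ih => rw [Finset.sum_insert ha, Finset.sum_insert ha, b.add_left, ih]

theorem Cl_sum_right {α : Type*} (b : Cl K V) (s : Finset α) (f : α → V) (w : V) :
    b.B w (∑ i ∈ s, f i) = ∑ i ∈ s, b.B w (f i) := by
  classical
  induction s using Finset.induction_on with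
  | empty => simp [Cl_zero_right]
  | insert a s ha ih => rw [Finset.sum_insert ha, Finset.sum_insert ha, b.add_right, ih]

variable {ι : Type} [Fintype ι] [DecidableEq ι]

/-- the basis belonging to an isomorphism of algebras -/
theorem exists_vec [Nonempty ι] (Φ : Matrix ι ι K ≃ₐ[K] R K V) :
    ∃ v : ι → V, (∀ X i, Φ X (v i) = ∑ j, X j i • v j) ∧ (∀ c : ι → K, ∑ i, c i • v i = 0 → c = 0) ∧
      ∀ w, ∃ c : ι → K, w = ∑ i, c i • v i := by
  obtain ⟨i0⟩ := ‹Nonempty ι›
  have he : Φ (single i0 i0 1) ≠ 0 := by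
    intro h
    rw [← map_zero Φ] at h
    have := congrFun (congrFun (Φ.injective h) i0) i0
    simp at this
  obtain ⟨w, hw⟩ : ∃ w, Φ (single i0 i0 1) w ≠ 0 := by
    by_contra h
    push Not at h
    exact he (LinearMap.ext h)
  have hmul : ∀ X Y : Matrix ι ι K, ∀ u, Φ (X * Y) u = Φ X (Φ Y u) := by
    intro X Y u; rw [map_mul]; rfl
  have hX : ∀ X i, Φ X (Φ (single i i0 1) w) = ∑ j, X j i • Φ (single j i0 1) w := by
    intro X i
    rw [← hmul]
    have h1 : X * single i i0 1 = ∑ j, X j i • single j i0 (1 : K) := by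
      ext a c
      rw [Matrix.sum_apply]
      by_cases hc : i0 = c
      · subst hc
        rw [Matrix.mul_single_apply_same, mul_one, Finset.sum_eq_single a]
        · rw [Matrix.smul_apply, Matrix.single_apply_same, smul_eq_mul, mul_one]
        · intro d _ hd
          rw [Matrix.smul_apply, Matrix.single_apply, if_neg (fun h => hd h.1), smul_zero]
        · intro h; exact absurd (Finset.mem_univ _) h
      · rw [Matrix.mul_single_apply_of_ne _ _ _ _ _ (Ne.symm hc)]
        symm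
        apply Finset.sum_eq_zero
        intro d _
        rw [Matrix.smul_apply, Matrix.single_apply, if_neg (fun h => hc h.2), smul_zero]
    rw [h1, map_sum, LinearMap.sum_apply]
    apply Finset.sum_congr rfl
    intro j _
    rw [map_smul, LinearMap.smul_apply]
  refine ⟨fun i => Φ (single i i0 1) w, hX, ?_, ?_⟩
  · intro c hc
    funext i
    have h1 := congrArg (Φ (single i0 i 1)) hc
    rw [map_zero, map_sum] at h1
    have h2 : ∀ j, Φ (single i0 i 1) (c j • Φ (single j i0 1) w) = if j = i then c i • Φ (single i0 i0 1) w else 0 := by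
      intro j
      rw [map_smul, ← hmul]
      by_cases hj : j = i
      · subst hj
        rw [if_pos rfl, Matrix.single_mul_single_same, mul_one]
      · rw [if_neg hj, Matrix.single_mul_single_of_ne _ _ _ _ (Ne.symm hj), map_zero, LinearMap.zero_apply, smul_zero]
    rw [Finset.sum_congr rfl (fun j _ => h2 j), Finset.sum_ite_eq' Finset.univ i, if_pos (Finset.mem_univ _)] at h1
    exact (smul_eq_zero.1 h1).resolve_right hw
  · intro w'
    obtain ⟨φ, hφ⟩ : ∃ φ : V →ₗ[K] K, φ (Φ (single i0 i0 1) w) = 1 := by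
      by_contra hcon
      push Not at hcon
      apply hw
      rw [← Module.forall_dual_apply_eq_zero_iff K]
      intro ψ
      by_contra h0
      apply hcon ((ψ (Φ (single i0 i0 1) w))⁻¹ • ψ)
      rw [LinearMap.smul_apply, smul_eq_mul, inv_mul_cancel₀ h0]
    let T : R K V := (LinearMap.toSpanSingleton K V w').comp φ
    have hT : T (Φ (single i0 i0 1) w) = w' := by
      show φ _ • w' = w'
      rw [hφ, one_smul]
    refine ⟨fun j => (Φ.symm T) j i0, ?_⟩
    rw [← hX, AlgEquiv.apply_symm_apply, hT]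

/-- Gram matrices -/
theorem exists_gram [Nonempty ι] (b : Cl K V) (hb : b.IsSp) (Φ : Matrix ι ι K ≃ₐ[K] R K V) :
    ∃ G : Matrix ι ι K, (∀ X Y, b.Adj (Φ X) (Φ Y) ↔ Xᵀ * G = G * Y) ∧ (∀ i, G i i = 0) ∧ Gᵀ = -G ∧ G.det ≠ 0 := by
  obtain ⟨v, hv, hli, hsp⟩ := exists_vec Φ
  have hτ : ∀ a, b.τ a = a := hb.1
  have hB : ∀ (c d : ι → K) (T T' : R K V), b.B (T (∑ i, c i • v i)) (T' (∑ j, d j • v j)) =
      ∑ i, ∑ j, c i * (d j * b.B (T (v i)) (T' (v j))) := by
    intro c d T T'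
    rw [map_sum, Cl_sum_left]
    apply Finset.sum_congr rfl
    intro i _
    rw [map_sum, Cl_sum_right]
    apply Finset.sum_congr rfl
    intro j _
    rw [map_smul, map_smul, b.smul_left, b.smul_right, hτ]
  refine ⟨Matrix.of fun i j => b.B (v i) (v j), ?_, ?_, ?_, ?_⟩
  · intro X Y
    have h1 : ∀ i j, b.B (Φ X (v i)) (v j) = (Xᵀ * Matrix.of fun i j => b.B (v i) (v j)) i j := by
      intro i j
      rw [hv, Cl_sum_left, Matrix.mul_apply]
      apply Finset.sum_congr rfl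
      intro k _
      rw [b.smul_left]
      rfl
    have h2 : ∀ i j, b.B (v i) (Φ Y (v j)) = ((Matrix.of fun i j => b.B (v i) (v j)) * Y) i j := by
      intro i j
      rw [hv, Cl_sum_right, Matrix.mul_apply]
      apply Finset.sum_congr rfl
      intro k _
      rw [b.smul_right, hτ, mul_comm]
      rfl
    constructor
    · intro h
      ext i j
      rw [← h1, ← h2]
      exact h _ _
    · intro h w w'
      obtain ⟨c, rfl⟩ := hsp w
      obtain ⟨d, rfl⟩ := hsp w'
      have e1 := hB c d (Φ X) 1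
      have e2 := hB c d 1 (Φ Y)
      rw [Module.End.one_apply] at e1 e2
      rw [e1, e2]
      apply Finset.sum_congr rfl
      intro i _
      apply Finset.sum_congr rfl
      intro j _
      rw [Module.End.one_apply, Module.End.one_apply, h1, h2, h]
  · intro i
    exact hb.2 _
  · ext i j
    rw [Matrix.transpose_apply, Matrix.neg_apply]
    show b.B (v j) (v i) = -b.B (v i) (v j)
    have h := hb.2 (v i + v j)
    rw [b.add_left, b.add_right, b.add_right, hb.2, hb.2, zero_add, add_zero] at h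
    exact eq_neg_of_add_eq_zero_right h
  · intro h0
    obtain ⟨c, hc, hc0⟩ := Matrix.exists_vecMul_eq_zero_iff.2 h0
    apply hc
    apply hli
    apply b.nondeg
    intro w
    obtain ⟨d, rfl⟩ := hsp w
    have e1 := hB c d 1 1
    rw [Module.End.one_apply, Module.End.one_apply] at e1
    rw [e1, Finset.sum_comm]
    apply Finset.sum_eq_zero
    intro j _
    have h3 := congrFun hc0 j
    have h4 : ∑ i, c i * (d j * b.B (v i) (v j)) = d j * ∑ i, c i * b.B (v i) (v j) := by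
      rw [Finset.mul_sum]
      apply Finset.sum_congr rfl
      intro i _
      ring
    have h5 : ∑ i, c i * b.B (v i) (v j) = 0 := h3
    simp only [Module.End.one_apply]
    rw [h4, h5, mul_zero]

end gram

end Cfsg.Agent.H976.FC
end

-- part: H976/FC/Factor
section
/-!
# S5764, C4: factorization of the Gram matrix (helper976)
-/

set_option autoImplicit false

open Matrix
open scoped Kronecker

namespace Cfsg.Agent.H976.FC

section factor

variable {K : Type*} [Field K] {I Y : Type*} [Fintype I] [DecidableEq I] [Fintype Y] [DecidableEq Y]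

/-- the Gram matrix of a form compatible with a tensor decomposition is a Kronecker product -/
theorem gram_factor [Nonempty I] [Nonempty Y] (G : Matrix (I × Y) (I × Y) K) (hG : G.det ≠ 0)
    (h : ∀ B : Matrix I I K, ∃ B' : Matrix I I K,
      (B ⊗ₖ (1 : Matrix Y Y K))ᵀ * G = G * (B' ⊗ₖ (1 : Matrix Y Y K))) :
    ∃ (N : Matrix I I K) (J : Matrix Y Y K), G = N ⊗ₖ J ∧ N.det ≠ 0 ∧ J.det ≠ 0 := by
  -- blocks
  let blk : Y → Y → Matrix I I K := fun k l => Matrix.of fun i j => G (i, k) (j, l)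
  have hblk : ∀ B : Matrix I I K, ∃ B' : Matrix I I K, ∀ k l, Bᵀ * blk k l = blk k l * B' := by
    intro B
    obtain ⟨B', hB'⟩ := h B
    refine ⟨B', fun k l => ?_⟩
    ext i j
    have h1 := congrFun (congrFun hB' (i, k)) (j, l)
    rw [← kroneckerMap_transpose, Matrix.transpose_one, Matrix.mul_apply, Matrix.mul_apply, Fintype.sum_prod_type,
      Fintype.sum_prod_type] at h1
    rw [Matrix.mul_apply, Matrix.mul_apply]
    have e1 : ∀ x, ∑ y, (Bᵀ ⊗ₖ (1 : Matrix Y Y K)) (i, k) (x, y) * G (x, y) (j, l) = Bᵀ i x * blk k l x j := by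
      intro x
      rw [Finset.sum_eq_single k]
      · rw [Matrix.kronecker_apply, Matrix.one_apply_eq, mul_one]; rfl
      · intro y _ hy
        rw [Matrix.kronecker_apply, Matrix.one_apply_ne (Ne.symm hy), mul_zero, zero_mul]
      · intro h2; exact absurd (Finset.mem_univ _) h2
    have e2 : ∀ x, ∑ y, G (i, k) (x, y) * (B' ⊗ₖ (1 : Matrix Y Y K)) (x, y) (j, l) = blk k l i x * B' x j := by
      intro x
      rw [Finset.sum_eq_single l]
      · rw [Matrix.kronecker_apply, Matrix.one_apply_eq, mul_one]; rfl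
      · intro y _ hy
        rw [Matrix.kronecker_apply, Matrix.one_apply_ne hy, mul_zero, mul_zero]
      · intro h2; exact absurd (Finset.mem_univ _) h2
    rw [Finset.sum_congr rfl (fun x _ => e1 x), Finset.sum_congr rfl (fun x _ => e2 x)] at h1
    exact h1
  have hG0 : G ≠ 0 := by
    rintro rfl
    exact hG Matrix.det_zero
  obtain ⟨⟨a, k0⟩, ⟨b, l0⟩, hab⟩ : ∃ x y, G x y ≠ 0 := by
    by_contra hcon
    push Not at hcon
    exact hG0 (Matrix.ext hcon)
  set N : Matrix I I K := blk k0 l0 with hN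
  have hNab : N a b ≠ 0 := hab
  choose F hF using hblk
  -- `N` has a right inverse
  have hNinv : N * ∑ i, F (single a i 1) * single b i (N a b)⁻¹ = 1 := by
    rw [Finset.mul_sum]
    have e1 : ∀ i, N * (F (single a i 1) * single b i (N a b)⁻¹) = single i i 1 := by
      intro i
      rw [← mul_assoc, ← hF, Matrix.transpose_single]
      ext x y
      by_cases hx : x = i
      · subst hx
        by_cases hy : y = x
        · subst hy
          rw [Matrix.mul_single_apply_same, Matrix.single_mul_apply_same, one_mul, Matrix.single_apply_same,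
            mul_inv_cancel₀ hNab]
        · rw [Matrix.mul_single_apply_of_ne _ _ _ _ _ hy, Matrix.single_apply, if_neg (fun h2 => hy h2.2.symm)]
      · rw [Matrix.single_apply, if_neg (fun h2 => hx h2.1.symm)]
        by_cases hy : y = i
        · subst hy
          rw [Matrix.mul_single_apply_same, Matrix.single_mul_apply_of_ne _ _ _ _ _ hx, zero_mul]
        · rw [Matrix.mul_single_apply_of_ne _ _ _ _ _ hy]
    rw [Finset.sum_congr rfl (fun i _ => e1 i)]
    ext x y
    rw [Matrix.sum_apply, Finset.sum_eq_single x]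
    · rw [Matrix.single_apply, Matrix.one_apply]
      by_cases hxy : x = y
      · rw [if_pos ⟨rfl, hxy⟩, if_pos hxy]
      · rw [if_neg (fun h2 => hxy h2.2), if_neg hxy]
    · intro i _ hi
      rw [Matrix.single_apply, if_neg (fun h2 => hi h2.1)]
    · intro h2; exact absurd (Finset.mem_univ _) h2
  have hNu : IsUnit N.det := Matrix.isUnit_det_of_right_inverse hNinv
  have hJ : ∀ k l, ∃ s : K, blk k l = s • N := by
    intro k l
    obtain ⟨s, hs⟩ := scalar_of_comm (blk k l * N⁻¹) (fun X => by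
      have h1 := hF Xᵀ k l
      have h2 := hF Xᵀ k0 l0
      rw [Matrix.transpose_transpose] at h1 h2
      have h3 : F Xᵀ = N⁻¹ * X * N := by
        rw [mul_assoc, h2, ← mul_assoc, Matrix.nonsing_inv_mul _ hNu, one_mul]
      rw [h3] at h1
      rw [← mul_assoc, h1, mul_assoc (blk k l), mul_assoc (blk k l), mul_assoc (N⁻¹ * X), Matrix.mul_nonsing_inv _ hNu,
        mul_one])
    refine ⟨s, ?_⟩
    have h4 : blk k l = blk k l * N⁻¹ * N := by
      rw [mul_assoc, Matrix.nonsing_inv_mul _ hNu, mul_one]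
    rw [h4, hs, smul_mul_assoc, one_mul]
  choose J hJ using hJ
  have hGNJ : G = N ⊗ₖ (Matrix.of J) := by
    ext ⟨i, k⟩ ⟨j, l⟩
    have h1 := congrFun (congrFun (hJ k l) i) j
    rw [Matrix.smul_apply] at h1
    rw [Matrix.kronecker_apply, Matrix.of_apply, mul_comm]
    exact h1
  refine ⟨N, Matrix.of J, hGNJ, hNu.ne_zero, fun h0 => hG ?_⟩
  rw [hGNJ, Matrix.det_kronecker, h0, zero_pow Fintype.card_ne_zero, mul_zero]

/-- symmetric and alternating factor -/
theorem factor_types {N : Matrix I I K} {J : Matrix Y Y K} (hN : N ≠ 0) (hJ : J ≠ 0)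
    (hd : ∀ x, (N ⊗ₖ J) x x = 0) (ht : (N ⊗ₖ J)ᵀ = -(N ⊗ₖ J)) :
    (Nᵀ = N ∧ (∀ k, J k k = 0) ∧ Jᵀ = -J) ∨ (Jᵀ = J ∧ (∀ k, N k k = 0) ∧ Nᵀ = -N) := by
  obtain ⟨a, b, hab⟩ : ∃ x y, N x y ≠ 0 := by
    by_contra hcon
    push Not at hcon
    exact hN (Matrix.ext hcon)
  obtain ⟨k, l, hkl⟩ : ∃ x y, J x y ≠ 0 := by
    by_contra hcon
    push Not at hcon
    exact hJ (Matrix.ext hcon)
  have e : ∀ i j k l, N i j * J k l = -(N j i * J l k) := by
    intro i j k l
    have h1 := congrFun (congrFun ht (j, l)) (i, k)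
    rw [Matrix.transpose_apply, Matrix.neg_apply, Matrix.kronecker_apply, Matrix.kronecker_apply] at h1
    exact h1
  have e0 : ∀ i k, N i i * J k k = 0 := by
    intro i k
    have h1 := hd (i, k)
    rwa [Matrix.kronecker_apply] at h1
  -- `J` is symmetric or skew
  have hJε : ∀ x y, J x y = -(N b a / N a b) * J y x := by
    intro x y
    have h1 := e a b x y
    field_simp
    linear_combination h1
  set ε : K := -(N b a / N a b) with hε
  have hε2 : ε * ε = 1 := by
    have h1 := hJε k l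
    rw [hJε l k, ← mul_assoc] at h1
    have h2 : (ε * ε - 1) * J k l = 0 := by linear_combination -h1
    have h3 := (mul_eq_zero.1 h2).resolve_right hkl
    linear_combination h3
  have hNε : ∀ x y, N x y = -ε * N y x := by
    intro x y
    have h1 := e x y k l
    have h2 := hJε l k
    rw [h2] at h1
    have h3 : (N x y - -ε * N y x) * J k l = 0 := by linear_combination h1
    have h4 := (mul_eq_zero.1 h3).resolve_right hkl
    linear_combination h4
  have hε1 : ε = 1 ∨ ε = -1 := by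
    have h1 : (ε - 1) * (ε + 1) = 0 := by linear_combination hε2
    rcases mul_eq_zero.1 h1 with h | h
    · left; linear_combination h
    · right; linear_combination h
  by_cases h2 : (2 : K) = 0
  · -- characteristic 2
    have hneg : ∀ x : K, -x = x := by
      intro x
      linear_combination -x * h2
    have hε1' : ε = 1 := by
      rcases hε1 with h | h
      · exact h
      · rw [h]; exact hneg 1
    have hNs : ∀ x y, N x y = N y x := by
      intro x y
      rw [hNε x y, hε1', hneg, one_mul]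
    have hJs : ∀ x y, J x y = J y x := by
      intro x y
      rw [hJε x y, hε1', one_mul]
    by_cases hNd : ∀ i, N i i = 0
    · right
      refine ⟨Matrix.ext fun x y => hJs y x, hNd, Matrix.ext fun x y => ?_⟩
      rw [Matrix.neg_apply, hneg]
      exact hNs y x
    · left
      push Not at hNd
      obtain ⟨i, hi⟩ := hNd
      refine ⟨Matrix.ext fun x y => hNs y x, fun k => (mul_eq_zero.1 (e0 i k)).resolve_left hi,
        Matrix.ext fun x y => ?_⟩
      rw [Matrix.neg_apply, hneg]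
      exact hJs y x
  · rcases hε1 with h | h
    · right
      refine ⟨Matrix.ext fun x y => ?_, fun k => ?_, Matrix.ext fun x y => ?_⟩
      · rw [Matrix.transpose_apply, hJε, h, one_mul]
      · have h3 := hNε k k
        rw [h] at h3
        have h4 : (2 : K) * N k k = 0 := by linear_combination h3
        exact (mul_eq_zero.1 h4).resolve_left h2
      · rw [Matrix.transpose_apply, Matrix.neg_apply, hNε, h]; ring
    · left
      refine ⟨Matrix.ext fun x y => ?_, fun k => ?_, Matrix.ext fun x y => ?_⟩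
      · rw [Matrix.transpose_apply, hNε, h]; ring
      · have h3 := hJε k k
        rw [h] at h3
        have h4 : (2 : K) * J k k = 0 := by linear_combination h3
        exact (mul_eq_zero.1 h4).resolve_left h2
      · rw [Matrix.transpose_apply, Matrix.neg_apply, hJε, h]; ring

end factor

end Cfsg.Agent.H976.FC
end

-- part: H976/FC/Normal
section
/-!
# S5764, C4: normal forms of symmetric and alternating matrices (helper976)
-/

set_option autoImplicit false
set_option linter.unusedSectionVars false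

open Matrix
open scoped Kronecker

namespace Cfsg.Agent.H976.FC

section normal

variable {K : Type*} [Field K] {Y : Type*} [Fintype Y] [DecidableEq Y]

/-- change of basis for a matrix seen as a bilinear form -/
theorem exists_basis_change {J : Matrix Y Y K} {α : Type*} [Fintype α] [DecidableEq α]
    (c : Module.Basis α K (Y → K)) :
    ∃ (P : Matrix Y α K) (P' : Matrix α Y K), P * P' = 1 ∧ P' * P = 1 ∧
      ∀ x y, (Pᵀ * J * P) x y = Matrix.toBilin' J (c x) (c y) := by
  refine ⟨(Pi.basisFun K Y).toMatrix c, c.toMatrix (Pi.basisFun K Y), Module.Basis.toMatrix_mul_toMatrix_flip _ _,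
    Module.Basis.toMatrix_mul_toMatrix_flip _ _, fun x y => ?_⟩
  rw [Matrix.toBilin'_apply', Matrix.mul_assoc, Matrix.mul_apply]
  rfl

theorem toBilin'_nondeg {J : Matrix Y Y K} (hJ : J.det ≠ 0) (v : Y → K) (h : ∀ w, Matrix.toBilin' J v w = 0) : v = 0 := by
  by_contra hv
  apply hJ
  rw [← Matrix.exists_vecMul_eq_zero_iff]
  refine ⟨v, hv, ?_⟩
  funext j
  have h1 := h (Pi.single j 1)
  rw [Matrix.toBilin'_apply', Matrix.dotProduct_mulVec, dotProduct_single, mul_one] at h1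
  exact h1

theorem toBilin'_alt {J : Matrix Y Y K} (h0 : ∀ k, J k k = 0) (ht : Jᵀ = -J) : (Matrix.toBilin' J).IsAlt := by
  have hskew : ∀ x y, Matrix.toBilin' J x y = - Matrix.toBilin' J y x := by
    intro x y
    rw [Matrix.toBilin'_apply', Matrix.toBilin'_apply', Matrix.dotProduct_mulVec, dotProduct_comm,
      ← Matrix.mulVec_transpose, ht, Matrix.neg_mulVec, dotProduct_neg]
  intro x
  have hx : ∀ s : Finset Y, Matrix.toBilin' J (∑ i ∈ s, Pi.single i (x i)) (∑ i ∈ s, Pi.single i (x i)) = 0 := by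
    intro s
    induction s using Finset.induction_on with
    | empty => simp
    | insert a s ha ih =>
      rw [Finset.sum_insert ha]
      set u := ∑ i ∈ s, (Pi.single i (x i) : Y → K)
      rw [LinearMap.map_add₂, map_add, map_add, ih, hskew u]
      have h2 : Matrix.toBilin' J (Pi.single a (x a)) (Pi.single a (x a)) = 0 := by
        rw [Matrix.toBilin'_apply', single_dotProduct, Matrix.mulVec_single, Pi.smul_apply]
        simp [h0]
      rw [h2]
      ring
  have h1 := hx Finset.univ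
  rw [Finset.univ_sum_single] at h1
  exact h1

/-- alternating normal form -/
theorem exists_om {J : Matrix Y Y K} [Nonempty Y] (hJ : J.det ≠ 0) (h0 : ∀ k, J k k = 0) (ht : Jᵀ = -J) :
    ∃ (n : ℕ) (P : Matrix Y (Fin 2 × Fin (n + 1)) K) (P' : Matrix (Fin 2 × Fin (n + 1)) Y K),
      P * P' = 1 ∧ P' * P = 1 ∧ Pᵀ * J * P = om K n := by
  have halt := toBilin'_alt h0 ht
  obtain ⟨m, k, c, h1, h2, h3, h4⟩ := Cfsg.Agent.S0752.result (Matrix.toBilin' J) halt
  have hk : k = 0 := by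
    by_contra hk
    have j : Fin k := ⟨0, Nat.pos_of_ne_zero hk⟩
    exact c.ne_zero (Sum.inr j) (toBilin'_nondeg hJ _ (h4 j))
  subst hk
  have hm : m ≠ 0 := by
    rintro rfl
    obtain ⟨y⟩ := ‹Nonempty Y›
    have h5 := c.sum_repr (Pi.single y 1)
    rw [Finset.sum_eq_zero] at h5
    · have := congrFun h5 y
      simp at this
    · rintro ((x | x) | x) _
      · exact x.elim0
      · exact x.elim0
      · exact x.elim0
  obtain ⟨n, rfl⟩ := Nat.exists_eq_succ_of_ne_zero hm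
  let e : (Fin (n + 1) ⊕ Fin (n + 1)) ⊕ Fin 0 ≃ Fin 2 × Fin (n + 1) :=
    { toFun := Sum.elim (Sum.elim (fun i => (0, i)) (fun i => (1, i))) (fun j => j.elim0)
      invFun := fun x => if x.1 = 0 then Sum.inl (Sum.inl x.2) else Sum.inl (Sum.inr x.2)
      left_inv := by
        rintro ((x | x) | x)
        · rfl
        · rfl
        · exact x.elim0
      right_inv := by
        rintro ⟨s, i⟩
        fin_cases s <;> rfl }
  have he0 : ∀ i, (c.reindex e) (0, i) = c (Sum.inl (Sum.inl i)) := fun i => by rw [Module.Basis.reindex_apply]; rfl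
  have he1 : ∀ i, (c.reindex e) (1, i) = c (Sum.inl (Sum.inr i)) := fun i => by rw [Module.Basis.reindex_apply]; rfl
  obtain ⟨P, P', hPP, hP'P, hP⟩ := exists_basis_change (J := J) (c.reindex e)
  refine ⟨n, P, P', hPP, hP'P, ?_⟩
  ext ⟨s, i⟩ ⟨t, j⟩
  rw [hP, om, Matrix.kronecker_apply]
  fin_cases s <;> fin_cases t
  · show Matrix.toBilin' J ((c.reindex e) (0, i)) ((c.reindex e) (0, j)) = 0 * _
    rw [he0, he0, h2, zero_mul]
  · show Matrix.toBilin' J ((c.reindex e) (0, i)) ((c.reindex e) (1, j)) = 1 * _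
    rw [he0, he1, h1, one_mul, Matrix.one_apply]
  · show Matrix.toBilin' J ((c.reindex e) (1, i)) ((c.reindex e) (0, j)) = (-1) * _
    rw [he0, he1, ← halt.neg_eq, h1, Matrix.one_apply]
    by_cases hij : i = j
    · subst hij; simp
    · rw [if_neg hij, if_neg (Ne.symm hij)]; ring
  · show Matrix.toBilin' J ((c.reindex e) (1, i)) ((c.reindex e) (1, j)) = 0 * _
    rw [he1, he1, h3, zero_mul]

/-- symmetric normal form, odd characteristic -/
theorem exists_diag {N : Matrix Y Y K} (h2 : (2 : K) ≠ 0) (hN : N.det ≠ 0) (ht : Nᵀ = N) :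
    ∃ (Q : Matrix Y (Fin (Module.finrank K (Y → K))) K) (Q' : Matrix (Fin (Module.finrank K (Y → K))) Y K)
      (d : Fin (Module.finrank K (Y → K)) → K),
      Q * Q' = 1 ∧ Q' * Q = 1 ∧ (∀ i, d i ≠ 0) ∧ Qᵀ * N * Q = diagonal d := by
  have : Invertible (2 : K) := invertibleOfNonzero h2
  have hsymm : LinearMap.IsSymm (Matrix.toBilin' N) := by
    constructor
    intro x y
    show Matrix.toBilin' N x y = Matrix.toBilin' N y x
    rw [Matrix.toBilin'_apply', Matrix.toBilin'_apply', Matrix.dotProduct_mulVec, dotProduct_comm,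
      ← Matrix.mulVec_transpose, ht]
  obtain ⟨c, hc⟩ := LinearMap.BilinForm.exists_orthogonal_basis hsymm
  obtain ⟨Q, Q', hQQ, hQ'Q, hQ⟩ := exists_basis_change (J := N) c
  refine ⟨Q, Q', fun i => Matrix.toBilin' N (c i) (c i), hQQ, hQ'Q, ?_, ?_⟩
  · intro i hi
    apply c.ne_zero i
    apply toBilin'_nondeg hN
    intro w
    rw [← c.sum_repr w, map_sum]
    apply Finset.sum_eq_zero
    intro j _
    rw [map_smul]
    by_cases hij : i = j
    · subst hij
      have hi' : Matrix.toBilin' N (c i) (c i) = 0 := hi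
      rw [hi', smul_zero]
    · have := hc hij
      rw [show Matrix.toBilin' N (c i) (c j) = 0 from this, smul_zero]
  · ext i j
    rw [hQ]
    by_cases hij : i = j
    · subst hij
      rw [Matrix.diagonal_apply_eq]
    · rw [Matrix.diagonal_apply_ne _ hij]
      exact hc hij

theorem exists_diag' {N : Matrix Y Y K} [Nonempty Y] (h2 : (2 : K) ≠ 0) (hN : N.det ≠ 0) (ht : Nᵀ = N) :
    ∃ (m : ℕ) (Q : Matrix Y (Fin (m + 1)) K) (Q' : Matrix (Fin (m + 1)) Y K) (d : Fin (m + 1) → K),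
      m + 1 = Fintype.card Y ∧ Q * Q' = 1 ∧ Q' * Q = 1 ∧ (∀ i, d i ≠ 0) ∧ Qᵀ * N * Q = diagonal d := by
  have h := exists_diag h2 hN ht
  have hcard : Module.finrank K (Y → K) = Fintype.card Y := Module.finrank_fintype_fun_eq_card K
  have hpos : 0 < Fintype.card Y := Fintype.card_pos
  obtain ⟨m, hm⟩ : ∃ m, Module.finrank K (Y → K) = m + 1 := ⟨Fintype.card Y - 1, by omega⟩
  rw [hm] at h
  obtain ⟨Q, Q', d, h1⟩ := h
  exact ⟨m, Q, Q', d, by omega, h1⟩

end normal

end Cfsg.Agent.H976.FC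
end

-- part: H976/FC/Assemble
section
/-!
# S5764, C4: assembly (helper976)
-/

set_option autoImplicit false
set_option linter.unusedSectionVars false

open Matrix
open scoped Kronecker

namespace Cfsg.Agent.H976.FC

open Cfsg.Agent.H198.FC

universe u v

section change

variable {K : Type u} [Field K]

/-- conjugation by a pair of inverse rectangular matrices -/
def cjm {α β : Type*} [Fintype α] [DecidableEq α] [Fintype β] [DecidableEq β] (A : Matrix α β K) (A' : Matrix β α K)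
    (h1 : A * A' = 1) (h2 : A' * A = 1) : Matrix β β K ≃ₐ[K] Matrix α α K where
  toFun X := A * X * A'
  invFun X := A' * X * A
  left_inv X := by
    show A' * (A * X * A') * A = X
    calc A' * (A * X * A') * A = (A' * A) * X * (A' * A) := by simp only [Matrix.mul_assoc]
      _ = X := by rw [h2, Matrix.one_mul, Matrix.mul_one]
  right_inv X := by
    show A * (A' * X * A) * A' = X
    calc A * (A' * X * A) * A' = (A * A') * X * (A * A') := by simp only [Matrix.mul_assoc]
      _ = X := by rw [h1, Matrix.one_mul, Matrix.mul_one]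
  map_mul' X Y := by
    show A * (X * Y) * A' = (A * X * A') * (A * Y * A')
    calc A * (X * Y) * A' = A * X * (1 : Matrix β β K) * Y * A' := by rw [Matrix.mul_one]; simp only [Matrix.mul_assoc]
      _ = A * X * (A' * A) * Y * A' := by rw [h2]
      _ = (A * X * A') * (A * Y * A') := by simp only [Matrix.mul_assoc]
  map_add' X Y := by
    show A * (X + Y) * A' = A * X * A' + A * Y * A'
    rw [Matrix.mul_add, Matrix.add_mul]
  commutes' r := by
    show A * (algebraMap K (Matrix β β K) r) * A' = algebraMap K (Matrix α α K) r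
    rw [Algebra.algebraMap_eq_smul_one, Algebra.algebraMap_eq_smul_one, Matrix.mul_smul, Matrix.mul_one, Matrix.smul_mul, h1]

variable {V : Type v} [AddCommGroup V] [Module K V]

/-- change of basis -/
theorem exists_change {I Y I' Y' : Type} [Fintype I] [DecidableEq I] [Fintype Y] [DecidableEq Y] [Fintype I'] [DecidableEq I']
    [Fintype Y'] [DecidableEq Y'] (b : Cl K V) (S : Subgroup (Equiv.Perm (R K V)))
    (Φ : Matrix (I × Y) (I × Y) K ≃ₐ[K] R K V) (N : Matrix I I K) (J : Matrix Y Y K)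
    (hadj : ∀ X X', Xᵀ * (N ⊗ₖ J) = (N ⊗ₖ J) * X' → b.Adj (Φ X) (Φ X'))
    (hf : ∀ f ∈ S, ∀ B : Matrix I I K, ∃ B' : Matrix I I K, f (Φ (B ⊗ₖ 1)) = Φ (B' ⊗ₖ 1))
    (Q : Matrix I I' K) (Q' : Matrix I' I K) (P : Matrix Y Y' K) (P' : Matrix Y' Y K)
    (h1 : Q * Q' = 1) (h2 : Q' * Q = 1) (h3 : P * P' = 1) (h4 : P' * P = 1) :
    ∃ Φ' : Matrix (I' × Y') (I' × Y') K ≃ₐ[K] R K V,
      (∀ X X', Xᵀ * ((Qᵀ * N * Q) ⊗ₖ (Pᵀ * J * P)) = ((Qᵀ * N * Q) ⊗ₖ (Pᵀ * J * P)) * X' → b.Adj (Φ' X) (Φ' X')) ∧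
      ∀ f ∈ S, ∀ B : Matrix I' I' K, ∃ B' : Matrix I' I' K, f (Φ' (B ⊗ₖ 1)) = Φ' (B' ⊗ₖ 1) := by
  have hA1 : (Q ⊗ₖ P) * (Q' ⊗ₖ P') = 1 := by rw [← mul_kronecker_mul, h1, h3, one_kronecker_one]
  have hA2 : (Q' ⊗ₖ P') * (Q ⊗ₖ P) = 1 := by rw [← mul_kronecker_mul, h2, h4, one_kronecker_one]
  have hG : (Qᵀ * N * Q) ⊗ₖ (Pᵀ * J * P) = (Q ⊗ₖ P)ᵀ * (N ⊗ₖ J) * (Q ⊗ₖ P) := by
    rw [← kroneckerMap_transpose, mul_kronecker_mul, mul_kronecker_mul]
  set A := Q ⊗ₖ P
  set A' := Q' ⊗ₖ P'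
  set G := N ⊗ₖ J
  refine ⟨(cjm A A' hA1 hA2).trans Φ, ?_, ?_⟩
  · intro X X' h
    rw [hG] at h
    show b.Adj (Φ (A * X * A')) (Φ (A * X' * A'))
    apply hadj
    have hA1t : A'ᵀ * Aᵀ = 1 := by rw [← Matrix.transpose_mul, hA1, Matrix.transpose_one]
    calc (A * X * A')ᵀ * G = A'ᵀ * (Xᵀ * (Aᵀ * G * (1 : Matrix (I × Y) (I × Y) K))) := by
          rw [Matrix.transpose_mul, Matrix.transpose_mul, Matrix.mul_one]; simp only [Matrix.mul_assoc]
      _ = A'ᵀ * (Xᵀ * (Aᵀ * G * (A * A'))) := by rw [hA1]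
      _ = A'ᵀ * (Xᵀ * (Aᵀ * G * A)) * A' := by simp only [Matrix.mul_assoc]
      _ = A'ᵀ * (Aᵀ * G * A * X') * A' := by rw [h]
      _ = (A'ᵀ * Aᵀ) * G * (A * X' * A') := by simp only [Matrix.mul_assoc]
      _ = G * (A * X' * A') := by rw [hA1t, Matrix.one_mul]
  · intro f hfS B
    obtain ⟨B', hB'⟩ := hf f hfS (Q * B * Q')
    refine ⟨Q' * B' * Q, ?_⟩
    have e1 : ∀ B : Matrix I' I' K, A * (B ⊗ₖ (1 : Matrix Y' Y' K)) * A' = (Q * B * Q') ⊗ₖ (1 : Matrix Y Y K) := by
      intro B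
      rw [← mul_kronecker_mul, ← mul_kronecker_mul, Matrix.mul_one, h3]
    show f (Φ (A * (B ⊗ₖ (1 : Matrix Y' Y' K)) * A')) = Φ (A * ((Q' * B' * Q) ⊗ₖ (1 : Matrix Y' Y' K)) * A')
    rw [e1, e1, hB']
    congr 2
    calc B' = (1 : Matrix I I K) * B' * (1 : Matrix I I K) := by rw [Matrix.one_mul, Matrix.mul_one]
      _ = (Q * Q') * B' * (Q * Q') := by rw [h1]
      _ = Q * (Q' * B' * Q) * Q' := by simp only [Matrix.mul_assoc]

/-- exchange of the two factors -/
theorem exists_swap [Finite K] {I Y : Type} [Fintype I] [DecidableEq I] [Fintype Y] [DecidableEq Y] [Nonempty I] [Nonempty Y]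
    (b : Cl K V) (S : Subgroup (Equiv.Perm (R K V))) (hS : S ≤ RB b)
    (Φ : Matrix (I × Y) (I × Y) K ≃ₐ[K] R K V) (N : Matrix I I K) (J : Matrix Y Y K)
    (hadj : ∀ X X', Xᵀ * (N ⊗ₖ J) = (N ⊗ₖ J) * X' → b.Adj (Φ X) (Φ X'))
    (hf : ∀ f ∈ S, ∀ B : Matrix I I K, ∃ B' : Matrix I I K, f (Φ (B ⊗ₖ 1)) = Φ (B' ⊗ₖ 1)) :
    ∃ Φ' : Matrix (Y × I) (Y × I) K ≃ₐ[K] R K V,
      (∀ X X', Xᵀ * (J ⊗ₖ N) = (J ⊗ₖ N) * X' → b.Adj (Φ' X) (Φ' X')) ∧
      ∀ f ∈ S, ∀ B : Matrix Y Y K, ∃ B' : Matrix Y Y K, f (Φ' (B ⊗ₖ 1)) = Φ' (B' ⊗ₖ 1) := by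
  let e : Matrix (Y × I) (Y × I) K ≃ₐ[K] Matrix (I × Y) (I × Y) K :=
    Matrix.reindexAlgEquiv K K (Equiv.prodComm Y I)
  have he : ∀ (B : Matrix Y Y K) (C : Matrix I I K), e (B ⊗ₖ C) = C ⊗ₖ B := by
    intro B C
    ext ⟨i, k⟩ ⟨j, l⟩
    show (B ⊗ₖ C) (k, i) (l, j) = _
    rw [Matrix.kronecker_apply, Matrix.kronecker_apply, mul_comm]
  have het : ∀ X, (e X)ᵀ = e Xᵀ := fun X => rfl
  refine ⟨e.trans Φ, ?_, ?_⟩
  · intro X X' h
    show b.Adj (Φ (e X)) (Φ (e X'))
    apply hadj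
    rw [het, ← he, ← map_mul, ← map_mul, h]
  · intro f hfS B
    have hfRP := (hS hfS).1
    let f0 : R K V ≃+* R K V := { f with map_mul' := hfRP.2, map_add' := hfRP.1 }
    let F := Φ.toRingEquiv.trans (f0.trans Φ.toRingEquiv.symm)
    have hF : ∀ X, F X = Φ.symm (f (Φ X)) := fun X => rfl
    obtain ⟨f1, hf1⟩ := exists_f1 F (fun B => by
      obtain ⟨B', hB'⟩ := hf f hfS B
      exact ⟨B', by rw [hF, hB', AlgEquiv.symm_apply_apply]⟩)
    obtain ⟨f2, hf2⟩ := exists_f2 F f1 hf1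
    refine ⟨f2 B, ?_⟩
    show f (Φ (e (B ⊗ₖ 1))) = Φ (e (f2 B ⊗ₖ 1))
    rw [he, he, ← hf2, hF, AlgEquiv.apply_symm_apply]

end change

section odd

variable {K : Type u} [Field K] {V : Type v} [AddCommGroup V] [Module K V]

theorem exists_gen' [Finite K] : ∃ γ : K, γ ≠ 0 ∧ Subring.closure {γ} = ⊤ := by
  obtain ⟨g, hg⟩ := IsCyclic.exists_generator (α := Kˣ)
  refine ⟨(g : K), g.ne_zero, ?_⟩
  rw [eq_top_iff]
  intro x _
  by_cases hx : x = 0
  · rw [hx]; exact Subring.zero_mem _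
  · obtain ⟨n, hn⟩ := (isOfFinOrder_of_finite g).mem_powers_iff_mem_zpowers.2 (hg (Units.mk0 x hx))
    have h1 : (g : K) ^ n = x := by
      have h2 := congrArg Units.val hn
      simpa using h2
    rw [← h1]
    have hmem : (g : K) ∈ Subring.closure {(g : K)} := Subring.subset_closure (Set.mem_singleton _)
    exact pow_mem hmem n

theorem skew_kron {I Y : Type} [Fintype I] [DecidableEq I] [Fintype Y] [DecidableEq Y] {B N : Matrix I I K}
    {h J : Matrix Y Y K} (h1 : Bᵀ * N = N * B) (h2 : hᵀ * J = -(J * h)) :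
    (B ⊗ₖ h)ᵀ * (N ⊗ₖ J) = (N ⊗ₖ J) * (-(B ⊗ₖ h)) := by
  rw [← kroneckerMap_transpose, ← mul_kronecker_mul, Matrix.mul_neg, ← mul_kronecker_mul, h1, h2]
  ext ⟨i, k⟩ ⟨j, l⟩
  rw [Matrix.neg_apply, Matrix.kronecker_apply, Matrix.kronecker_apply, Matrix.neg_apply, mul_neg]

/-- odd characteristic -/
theorem done_odd [Finite K] [Module.Finite K V] {I Y : Type} [Fintype I] [DecidableEq I] [Fintype Y] [DecidableEq Y]
    [Nonempty Y] (hI : 2 ≤ Fintype.card I) (h2 : (2 : K) ≠ 0)
    (b : Cl K V) (S : Subgroup (Equiv.Perm (R K V))) (hS : S ≤ RB b)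
    (Φ : Matrix (I × Y) (I × Y) K ≃ₐ[K] R K V) (N : Matrix I I K) (J : Matrix Y Y K)
    (hadj : ∀ X X', Xᵀ * (N ⊗ₖ J) = (N ⊗ₖ J) * X' → b.Adj (Φ X) (Φ X'))
    (hf : ∀ f ∈ S, ∀ B : Matrix I I K, ∃ B' : Matrix I I K, f (Φ (B ⊗ₖ 1)) = Φ (B' ⊗ₖ 1))
    (hN : N.det ≠ 0) (hNt : Nᵀ = N) (hJ : J.det ≠ 0) (hJ0 : ∀ k, J k k = 0) (hJt : Jᵀ = -J) : FiveB b S := by
  obtain ⟨n, P, P', hPP, hP'P, hP⟩ := exists_om hJ hJ0 hJt
  have : Nonempty I := Fintype.card_pos_iff.1 (by omega)
  obtain ⟨m, Q, Q', d, hm, hQQ, hQ'Q, hd, hQ⟩ := exists_diag' h2 hN hNt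
  obtain ⟨Φ', hadj', hf'⟩ := exists_change b S Φ N J hadj hf Q Q' P P' hQQ hQ'Q hPP hP'P
  rw [hQ, hP] at hadj'
  obtain ⟨γ, hγ0, hγ⟩ := exists_gen' (K := K)
  exact fiveB_of_rigid b S hS Φ' hf' (bb d γ) (bb_nonscalar (by omega) hd hγ0) (fun i => by
    rw [← map_neg]
    apply hadj'
    exact skew_kron (bb_self hd γ i) (hh_skew 1 i)) (rigidA (by omega) h2 hd hγ)

end odd

end Cfsg.Agent.H976.FC
end

-- part: H976/FC/Char2
section
/-!
# S5764, C4: characteristic 2, symmetric non-alternating factor (helper976)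
-/

set_option autoImplicit false
set_option linter.unusedSectionVars false

open Matrix
open scoped Kronecker

namespace Cfsg.Agent.H976.FC

open Cfsg.Agent.H198.FC

universe u v

section mat

variable {K : Type u} [Field K] {I : Type} [Fintype I] [DecidableEq I]

theorem quad_eq (h2 : (2 : K) = 0) {N : Matrix I I K} (hNt : Nᵀ = N) (n : I → K) (hn : ∀ i, n i * n i = N i i)
    (z : I → K) : Matrix.toBilin' N z z = (∑ i, n i * z i) * (∑ i, n i * z i) := by
  have hsymm : ∀ x y, Matrix.toBilin' N x y = Matrix.toBilin' N y x := by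
    intro x y
    rw [Matrix.toBilin'_apply', Matrix.toBilin'_apply', Matrix.dotProduct_mulVec, dotProduct_comm,
      ← Matrix.mulVec_transpose, hNt]
  have hz : ∀ s : Finset I, Matrix.toBilin' N (∑ i ∈ s, Pi.single i (z i)) (∑ i ∈ s, Pi.single i (z i)) =
      (∑ i ∈ s, n i * z i) * (∑ i ∈ s, n i * z i) := by
    intro s
    induction s using Finset.induction_on with
    | empty => simp
    | insert a s ha ih =>
      rw [Finset.sum_insert ha, Finset.sum_insert ha]
      set u := ∑ i ∈ s, (Pi.single i (z i) : I → K)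
      rw [LinearMap.map_add₂, map_add, map_add, ih, hsymm u]
      have h3 : Matrix.toBilin' N (Pi.single a (z a)) (Pi.single a (z a)) = n a * z a * (n a * z a) := by
        rw [Matrix.toBilin'_apply', single_dotProduct, Matrix.mulVec_single, Pi.smul_apply]
        simp only [MulOpposite.smul_eq_mul_unop, MulOpposite.unop_op, Matrix.col_apply, ← hn]
        ring
      rw [h3]
      linear_combination (Matrix.toBilin' N (Pi.single a (z a)) u - n a * z a * ∑ i ∈ s, n i * z i) * h2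
  have h1 := hz Finset.univ
  rw [Finset.univ_sum_single] at h1
  exact h1

theorem exists_p [Finite K] (h2 : (2 : K) = 0) {N : Matrix I I K} (hNt : Nᵀ = N) (hNd : ¬ ∀ i, N i i = 0)
    (hI : 2 ≤ Fintype.card I) :
    ∃ p : Matrix I I K, p * p = p ∧ p ≠ 0 ∧ p ≠ 1 ∧ ∀ Z : Matrix I I K, p * Z = 0 ↔ ∀ j, (Zᵀ * N * Z) j j = 0 := by
  have hch : ringChar K = 2 := CharP.ringChar_of_prime_eq_zero Nat.prime_two (by exact_mod_cast h2)
  have hsq : ∀ i, ∃ n : K, n * n = N i i := by
    intro i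
    obtain ⟨n, hn⟩ := FiniteField.isSquare_of_char_two hch (N i i)
    exact ⟨n, hn.symm⟩
  choose n hn using hsq
  obtain ⟨i0, hi0⟩ : ∃ i0, n i0 ≠ 0 := by
    by_contra hcon
    push Not at hcon
    exact hNd fun i => by rw [← hn, hcon, zero_mul]
  let p : Matrix I I K := Matrix.of fun i j => if i = i0 then (n i0)⁻¹ * n j else 0
  have hpZ : ∀ (Z : Matrix I I K) (i j : I), (p * Z) i j = if i = i0 then (n i0)⁻¹ * ∑ a, n a * Z a j else 0 := by
    intro Z i j
    rw [Matrix.mul_apply]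
    by_cases hi : i = i0
    · rw [if_pos hi, Finset.mul_sum]
      apply Finset.sum_congr rfl
      intro a _
      show (if i = i0 then (n i0)⁻¹ * n a else 0) * _ = _
      rw [if_pos hi, mul_assoc]
    · rw [if_neg hi]
      apply Finset.sum_eq_zero
      intro a _
      show (if i = i0 then (n i0)⁻¹ * n a else 0) * _ = _
      rw [if_neg hi, zero_mul]
  refine ⟨p, ?_, ?_, ?_, ?_⟩
  · ext i j
    rw [hpZ]
    show _ = if i = i0 then (n i0)⁻¹ * n j else 0
    by_cases hi : i = i0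
    · rw [if_pos hi, if_pos hi]
      congr 1
      rw [Finset.sum_eq_single i0]
      · show n i0 * (if i0 = i0 then (n i0)⁻¹ * n j else 0) = n j
        rw [if_pos rfl, ← mul_assoc, mul_inv_cancel₀ hi0, one_mul]
      · intro a _ ha
        show n a * (if a = i0 then (n i0)⁻¹ * n j else 0) = 0
        rw [if_neg ha, mul_zero]
      · intro h; exact absurd (Finset.mem_univ _) h
    · rw [if_neg hi, if_neg hi]
  · intro h
    have h3 := congrFun (congrFun h i0) i0
    have h4 : (if i0 = i0 then (n i0)⁻¹ * n i0 else 0) = (0 : K) := h3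
    rw [if_pos rfl, inv_mul_cancel₀ hi0] at h4
    exact one_ne_zero h4
  · intro h
    obtain ⟨j, hj⟩ : ∃ j, j ≠ i0 := by
      by_contra hcon
      push Not at hcon
      have : Fintype.card I ≤ 1 := Fintype.card_le_one_iff.2 fun a b => by rw [hcon a, hcon b]
      omega
    have h3 := congrFun (congrFun h j) j
    have h4 : (if j = i0 then (n i0)⁻¹ * n j else 0) = (1 : Matrix I I K) j j := h3
    rw [if_neg hj, Matrix.one_apply_eq] at h4
    exact zero_ne_one h4
  · intro Z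
    have hq : ∀ j, (Zᵀ * N * Z) j j = (∑ a, n a * Z a j) * (∑ a, n a * Z a j) := by
      intro j
      rw [← quad_eq h2 hNt n hn (fun a => Z a j), Matrix.toBilin'_apply', Matrix.mul_assoc, Matrix.mul_apply]
      rfl
    constructor
    · intro h j
      have h3 := congrFun (congrFun h i0) j
      rw [hpZ, if_pos rfl] at h3
      have h4 : ∑ a, n a * Z a j = 0 := (mul_eq_zero.1 h3).resolve_left (inv_ne_zero hi0)
      rw [hq, h4, zero_mul]
    · intro h
      ext i j
      rw [hpZ]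
      have h3 := h j
      rw [hq] at h3
      rw [mul_self_eq_zero.1 h3, mul_zero]
      split_ifs <;> rfl

/-- characterization of the right ideal by the adjoint -/
theorem diag_iff (h2 : (2 : K) = 0) [LinearOrder I] {N : Matrix I I K} (hN : N.det ≠ 0) (hNt : Nᵀ = N) (Z : Matrix I I K) :
    (∀ j, (Zᵀ * N * Z) j j = 0) ↔ ∃ Z' X X' : Matrix I I K, Zᵀ * N = N * Z' ∧ Xᵀ * N = N * X' ∧ Z' * Z = X - X' := by
  have hNu : IsUnit N.det := isUnit_iff_ne_zero.2 hN
  constructor
  · intro h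
    set A := Zᵀ * N * Z with hA
    have hAt : Aᵀ = A := by
      rw [hA, Matrix.transpose_mul, Matrix.transpose_mul, Matrix.transpose_transpose, hNt, Matrix.mul_assoc]
    let M : Matrix I I K := Matrix.of fun i j => if i < j then A i j else 0
    have hM : A = M - Mᵀ := by
      ext i j
      show A i j = (if i < j then A i j else 0) - (if j < i then A j i else 0)
      rcases lt_trichotomy i j with hij | hij | hij
      · rw [if_pos hij, if_neg (not_lt.2 hij.le), sub_zero]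
      · subst hij
        rw [if_neg (lt_irrefl _), h i, sub_zero]
      · rw [if_neg (not_lt.2 hij.le), if_pos hij, zero_sub]
        have h3 : A j i = A i j := congrFun (congrFun hAt i) j
        rw [h3]
        linear_combination A i j * h2
    have hNit : (N⁻¹)ᵀ = N⁻¹ := by rw [Matrix.transpose_nonsing_inv, hNt]
    refine ⟨N⁻¹ * (Zᵀ * N), N⁻¹ * M, N⁻¹ * Mᵀ, ?_, ?_, ?_⟩
    · rw [← Matrix.mul_assoc N, Matrix.mul_nonsing_inv _ hNu, Matrix.one_mul]
    · rw [Matrix.transpose_mul, hNit, Matrix.mul_assoc, Matrix.nonsing_inv_mul _ hNu, Matrix.mul_one,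
        ← Matrix.mul_assoc, Matrix.mul_nonsing_inv _ hNu, Matrix.one_mul]
    · rw [Matrix.mul_assoc, ← hA, ← Matrix.mul_sub, ← hM]
  · rintro ⟨Z', X, X', h1, h3, h4⟩ j
    have h5 : Zᵀ * N * Z = N * X - (N * X)ᵀ := by
      rw [h1, Matrix.mul_assoc, h4, Matrix.mul_sub, ← h3, Matrix.transpose_mul, hNt]
    rw [h5, Matrix.sub_apply, Matrix.transpose_apply, sub_self]

end mat

end Cfsg.Agent.H976.FC
end

-- part: H976/FC/Final
section
/-!
# S5764, C4: tensor decompositions, symplectic case (helper976)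
-/

set_option autoImplicit false
set_option linter.unusedSectionVars false

open Matrix
open scoped Kronecker

namespace Cfsg.Agent.H976.FC

open Cfsg.Agent.H198.FC

universe u v

section perp

variable {K : Type u} [Field K] {V : Type v} [AddCommGroup V] [Module K V]

/-- `W ∩ W^⊥` -/
def rad (b : Cl K V) (W : Submodule K V) : Submodule K V where
  carrier := {v | v ∈ W ∧ ∀ w ∈ W, b.B v w = 0}
  add_mem' := by
    rintro x y ⟨hx, hx'⟩ ⟨hy, hy'⟩
    exact ⟨add_mem hx hy, fun w hw => by rw [b.add_left, hx' w hw, hy' w hw, add_zero]⟩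
  zero_mem' := ⟨zero_mem _, fun w _ => Cl_zero_left b w⟩
  smul_mem' := by
    rintro a x ⟨hx, hx'⟩
    exact ⟨W.smul_mem a hx, fun w hw => by rw [b.smul_left, hx' w hw, mul_zero]⟩

theorem rad_TI (b : Cl K V) (W : Submodule K V) : b.TI (rad b W) := fun _ hv w hw => hv.2 w hw.1

theorem ND_of_rad (b : Cl K V) (W : Submodule K V) (h : rad b W = ⊥) : b.ND W := by
  intro v hv hv'
  have h1 : v ∈ rad b W := ⟨hv, hv'⟩
  rw [h] at h1
  exact (Submodule.mem_bot K).1 h1

theorem Cl_left_ext (b : Cl K V) {x y : V} (h : ∀ w, b.B x w = b.B y w) : x = y := by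
  have h1 : x + -y = 0 := by
    apply b.nondeg
    intro w
    rw [b.add_left, Cl_neg_left, h w, add_neg_cancel]
  rw [← sub_eq_add_neg] at h1
  exact sub_eq_zero.1 h1

theorem Cl_symm (b : Cl K V) (hb : b.IsSp) (x y : V) : b.B x y = -b.B y x := by
  have h := hb.2 (x + y)
  rw [b.add_left, b.add_right, b.add_right, hb.2, hb.2, zero_add, add_zero] at h
  exact eq_neg_of_add_eq_zero_left h

/-- the perpendicular part is stable -/
theorem stb_rad (b : Cl K V) (hb : b.IsSp) (hadj : ∀ X : R K V, ∃ X', b.Adj X X') (S : Subgroup (Equiv.Perm (R K V)))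
    (hS : S ≤ RB b) (W : Submodule K V) (hW : ∀ f ∈ S, Stb f W) : ∀ f ∈ S, Stb f (rad b W) := by
  intro f hf X hX
  obtain ⟨X', hX'⟩ := hadj X
  have hfX' : b.Adj (f X) (f X') := ((hS hf).2 X X').1 hX'
  have h1 : ∀ v, f X v ∈ W := hW f hf X fun v => (hX v).1
  -- `X' Y = 0` for `im Y ⊆ W`
  have h2 : ∀ Y : R K V, (∀ v, Y v ∈ W) → X' * Y = 0 := by
    intro Y hY
    apply LinearMap.ext
    intro u
    apply b.nondeg
    intro w
    show b.B (X' (Y u)) w = 0
    rw [Cl_symm b hb, ← hX', (hX w).2 _ (hY u), neg_zero]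
  intro v
  refine ⟨h1 v, fun w hw => ?_⟩
  -- an endomorphism with image in `W` and `w` in its image
  by_cases hw0 : w = 0
  · rw [hw0, Cl_zero_right]
  obtain ⟨φ, hφ⟩ : ∃ φ : V →ₗ[K] K, φ w ≠ 0 := by
    by_contra hcon
    push Not at hcon
    exact hw0 ((Module.forall_dual_apply_eq_zero_iff K w).1 hcon)
  let Y : R K V := (LinearMap.toSpanSingleton K V w).comp ((φ w)⁻¹ • φ)
  have hYw : Y w = w := by
    show ((φ w)⁻¹ • φ) w • w = w
    rw [LinearMap.smul_apply, smul_eq_mul, inv_mul_cancel₀ hφ, one_smul]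
  have hYW : ∀ v, Y v ∈ W := fun v => W.smul_mem _ hw
  have hfi : f⁻¹ ∈ S := S.inv_mem hf
  have h3 := h2 _ (hW _ hfi Y hYW)
  have h4 : f X' * Y = 0 := by
    have h5 : f (X' * f⁻¹ Y) = f X' * f (f⁻¹ Y) := ((hS hf).1).2 _ _
    rw [h3] at h5
    have h6 : f (f⁻¹ Y) = Y := f.apply_symm_apply Y
    have h7 : f 0 = 0 := by
      have := ((hS hf).1).1 0 0
      rw [add_zero] at this
      simpa using this
    rw [h6, h7] at h5
    exact h5.symm
  have h8 : b.B (f X v) w = b.B v (f X' w) := hfX' v w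
  have h9 : f X' w = 0 := by
    rw [← hYw]
    show (f X' * Y) w = 0
    rw [h4]; rfl
  rw [h8, h9, Cl_zero_right]

end perp

theorem sub_kron {K : Type*} [Field K] {I Y : Type*} (A B : Matrix I I K) (C : Matrix Y Y K) :
    (A - B) ⊗ₖ C = A ⊗ₖ C - B ⊗ₖ C := by
  ext ⟨i, k⟩ ⟨j, l⟩
  rw [Matrix.sub_apply, Matrix.kronecker_apply, Matrix.kronecker_apply, Matrix.kronecker_apply, Matrix.sub_apply, sub_mul]

section char2

variable {K : Type u} [Field K] [Finite K] {V : Type v} [AddCommGroup V] [Module K V] [Module.Finite K V]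

/-- the stable subspace -/
theorem exists_W {I Y : Type} [Fintype I] [LinearOrder I] [Fintype Y] [DecidableEq Y] [Nonempty Y]
    (hI : 2 ≤ Fintype.card I) (h2 : (2 : K) = 0)
    (b : Cl K V) (S : Subgroup (Equiv.Perm (R K V))) (hS : S ≤ RB b)
    (Φ : Matrix (I × Y) (I × Y) K ≃ₐ[K] R K V) (N : Matrix I I K) (J : Matrix Y Y K)
    (hadj : ∀ X X', b.Adj (Φ X) (Φ X') ↔ Xᵀ * (N ⊗ₖ J) = (N ⊗ₖ J) * X')
    (hf : ∀ f ∈ S, ∀ B : Matrix I I K, ∃ B' : Matrix I I K, f (Φ (B ⊗ₖ 1)) = Φ (B' ⊗ₖ 1))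
    (hN : N.det ≠ 0) (hNt : Nᵀ = N) (hNd : ¬ ∀ i, N i i = 0) (hJ : J.det ≠ 0) :
    ∃ W : Submodule K V, W ≠ ⊥ ∧ W ≠ ⊤ ∧ ∀ f ∈ S, Stb f W := by
  obtain ⟨p, hpp, hp0, hp1, hp⟩ := exists_p h2 hNt hNd hI
  have hJ0 : J ≠ 0 := by
    rintro rfl
    exact hJ Matrix.det_zero
  have hY0 : (1 : Matrix Y Y K) ≠ 0 := one_ne_zero
  have hmul : ∀ A B : Matrix I I K, Φ (A ⊗ₖ (1 : Matrix Y Y K)) * Φ (B ⊗ₖ 1) = Φ ((A * B) ⊗ₖ 1) := by
    intro A B
    rw [← map_mul, kron_mul_left]
  -- adjoints of the first factor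
  have hadj1 : ∀ B B' : Matrix I I K, b.Adj (Φ (B ⊗ₖ 1)) (Φ (B' ⊗ₖ 1)) ↔ Bᵀ * N = N * B' := by
    intro B B'
    rw [hadj, ← kroneckerMap_transpose, Matrix.transpose_one, ← mul_kronecker_mul, ← mul_kronecker_mul, Matrix.one_mul,
      Matrix.mul_one]
    exact ⟨fun h => kron_left hJ0 h, fun h => by rw [h]⟩
  refine ⟨LinearMap.ker (Φ (p ⊗ₖ 1)), ?_, ?_, ?_⟩
  · intro h
    apply hp1
    have h1 : ∀ X : R K V, Φ (p ⊗ₖ 1) * X = 0 → X = 0 := by
      intro X hX
      apply LinearMap.ext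
      intro v
      have h3 : X v ∈ LinearMap.ker (Φ (p ⊗ₖ 1)) := by
        rw [LinearMap.mem_ker]
        show (Φ (p ⊗ₖ 1) * X) v = 0
        rw [hX]; rfl
      rw [h] at h3
      exact (Submodule.mem_bot K).1 h3
    have h4 := h1 (Φ ((1 - p) ⊗ₖ 1)) (by rw [hmul, mul_sub, mul_one, hpp, sub_self, zero_kronecker, map_zero])
    rw [← map_zero Φ] at h4
    have h5 := Φ.injective h4
    have h6 : (1 - p : Matrix I I K) = 0 := kron_left hY0 (by rw [h5, zero_kronecker])
    exact (sub_eq_zero.1 h6).symm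
  · intro h
    apply hp0
    have h1 : Φ (p ⊗ₖ 1) = 0 := LinearMap.ker_eq_top.1 h
    rw [← map_zero Φ] at h1
    have h5 := Φ.injective h1
    exact kron_left hY0 (by rw [h5, zero_kronecker])
  · intro f hfS X hX v
    have hfRP := (hS hfS).1
    rw [LinearMap.mem_ker]
    have h1 : Φ (p ⊗ₖ 1) * X = 0 := LinearMap.ext fun v => LinearMap.mem_ker.1 (hX v)
    have h3 : Φ ((1 - p) ⊗ₖ 1) * X = X := by
      rw [sub_kron, map_sub, one_kronecker_one, map_one, sub_mul, one_mul, h1, sub_zero]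
    -- `f₁ (1 - p)`
    have hq : ∃ Q : Matrix I I K, f (Φ ((1 - p) ⊗ₖ 1)) = Φ (Q ⊗ₖ 1) ∧ p * Q = 0 := by
      obtain ⟨Q, hQ⟩ := hf f hfS (1 - p)
      refine ⟨Q, hQ, ?_⟩
      have h4 : p * (1 - p) = 0 := by rw [mul_sub, mul_one, hpp, sub_self]
      rw [hp, diag_iff h2 hN hNt] at h4 ⊢
      obtain ⟨Z', X, X', e1, e2, e3⟩ := h4
      obtain ⟨Z1, hZ1⟩ := hf f hfS Z'
      obtain ⟨X1, hX1⟩ := hf f hfS X
      obtain ⟨X2, hX2⟩ := hf f hfS X'
      refine ⟨Z1, X1, X2, ?_, ?_, ?_⟩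
      · rw [← hadj1, ← hQ, ← hZ1]
        exact ((hS hfS).2 _ _).1 ((hadj1 _ _).2 e1)
      · rw [← hadj1, ← hX1, ← hX2]
        exact ((hS hfS).2 _ _).1 ((hadj1 _ _).2 e2)
      · have hsub : ∀ A B : R K V, f (A - B) = f A - f B := by
          intro A B
          have := hfRP.1 (A - B) B
          rw [sub_add_cancel] at this
          rw [this, add_sub_cancel_right]
        have e4 : Φ ((Z1 * Q) ⊗ₖ (1 : Matrix Y Y K)) = Φ ((X1 - X2) ⊗ₖ 1) := by
          rw [← hmul, ← hZ1, ← hQ, ← hfRP.2, hmul, e3, sub_kron, sub_kron, map_sub Φ, hsub, hX1, hX2, map_sub Φ]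
        exact kron_left hY0 (Φ.injective e4)
    obtain ⟨Q, hQ, hpQ⟩ := hq
    have h5 : f X = Φ (Q ⊗ₖ 1) * f X := by
      rw [← hQ, ← hfRP.2, h3]
    have h6 : Φ (p ⊗ₖ 1) * f X = 0 := by
      rw [h5, ← mul_assoc, hmul, hpQ, zero_kronecker, map_zero, zero_mul]
    show (Φ (p ⊗ₖ 1) * f X) v = 0
    rw [h6]; rfl

end char2

theorem no_alt {K : Type u} [Field K] {m : ℕ} (hm : (m : K) ≠ 0) (h2 : (2 : K) = 0) {N : Matrix (Fin m) (Fin m) K}
    (hN : N.det ≠ 0) (h0 : ∀ i, N i i = 0) (ht : Nᵀ = -N) : False := by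
  have : Nonempty (Fin m) := by
    refine ⟨⟨0, Nat.pos_of_ne_zero ?_⟩⟩
    rintro rfl
    exact hm (by rw [Nat.cast_zero])
  obtain ⟨n, P, P', h1, h1', -⟩ := exists_om hN h0 ht
  have h3 := Matrix.square_of_invertible P P' h1 h1'
  rw [Fintype.card_fin, Fintype.card_prod, Fintype.card_fin, Fintype.card_fin] at h3
  apply hm
  rw [h3, Nat.cast_mul, Nat.cast_ofNat, h2, zero_mul]

/-- **tensor decompositions, symplectic case**, with the parabolic and the orthogonal case as hypotheses -/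
theorem stmtBC4nK_false_of (hPar : Cfsg.Agent.H786.FC.StmtBParK.{u, v} false)
    (hC1 : Cfsg.Agent.H786.FC.StmtBC1K.{u, v} false) : Cfsg.Agent.H786.FC.StmtBC4nK.{u, v} false := by
  intro K _ _ V _ _ _ b hk hbig S hS hsol u' y Φ hu hy hu0 hadj0 hf
  have hb : b.IsSp := hk.2 rfl
  have : Nonempty (Fin u') := ⟨⟨0, by omega⟩⟩
  have : Nonempty (Fin y) := ⟨⟨0, by omega⟩⟩
  obtain ⟨G, hG, hG0, hGt, hGd⟩ := exists_gram b hb Φ
  obtain ⟨N, J, rfl, hN, hJ⟩ := gram_factor G hGd (fun B => by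
    obtain ⟨B', hB'⟩ := hadj0 B
    exact ⟨B', (hG _ _).1 hB'⟩)
  have hN0 : N ≠ 0 := by
    rintro rfl
    exact hN Matrix.det_zero
  have hJ0 : J ≠ 0 := by
    rintro rfl
    exact hJ Matrix.det_zero
  by_cases h2 : (2 : K) = 0
  · have hneg : ∀ M : Matrix (Fin u') (Fin u') K, -M = M := by
      intro M
      ext i j
      rw [Matrix.neg_apply]
      linear_combination -(M i j) * h2
    rcases factor_types hN0 hJ0 hG0 hGt with ⟨hNt, hJd, hJt⟩ | ⟨hJt, hNd, hNt⟩
    · have hNd : ¬ ∀ i, N i i = 0 := fun h => no_alt hu0 h2 hN h (by rw [hneg, hNt])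
      obtain ⟨W, hW0, hW1, hW⟩ := exists_W (by rw [Fintype.card_fin]; exact hu) h2 b S hS Φ N J hG hf hN hNt hNd hJ
      by_cases hTI : ∀ W' : Submodule K V, b.TI W' → (∀ f ∈ S, Stb f W') → W' = ⊥
      · have hadjE : ∀ X : R K V, ∃ X', b.Adj X X' := by
          intro X
          have hGu : IsUnit (N ⊗ₖ J).det := isUnit_iff_ne_zero.2 hGd
          refine ⟨Φ ((N ⊗ₖ J)⁻¹ * ((Φ.symm X)ᵀ * (N ⊗ₖ J))), ?_⟩
          have h3 := (hG (Φ.symm X) ((N ⊗ₖ J)⁻¹ * ((Φ.symm X)ᵀ * (N ⊗ₖ J)))).2 (by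
            rw [← Matrix.mul_assoc (N ⊗ₖ J), Matrix.mul_nonsing_inv _ hGu, Matrix.one_mul])
          rw [AlgEquiv.apply_symm_apply] at h3
          exact h3
        exact hC1 K V b hk hbig S hS hsol hTI ⟨W, hW0, hW1,
          ND_of_rad b W (hTI _ (rad_TI b W) (stb_rad b hb hadjE S hS W hW)), hW⟩
      · push Not at hTI
        obtain ⟨W', h3, h4, h5⟩ := hTI
        exact hPar K V b hk hbig S hS hsol ⟨W', h5, h3, h4⟩
    · exact absurd (no_alt hu0 h2 hN hNd hNt) not_false
  · rcases factor_types hN0 hJ0 hG0 hGt with ⟨hNt, hJd, hJt⟩ | ⟨hJt, hNd, hNt⟩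
    · exact done_odd (by rw [Fintype.card_fin]; exact hu) h2 b S hS Φ N J (fun X X' h => (hG X X').2 h) hf hN hNt hJ hJd hJt
    · obtain ⟨Φ', hadj', hf'⟩ := exists_swap b S hS Φ N J (fun X X' h => (hG X X').2 h) hf
      exact done_odd (by rw [Fintype.card_fin]; exact hy) h2 b S hS Φ' J N hadj' hf' hJ hJt hN hNd hNt

/-- the same from `StmtBPar`, `StmtBC1` -/
theorem stmtBC4nK_false_of' (hPar : StmtBPar.{u, v}) (hC1 : StmtBC1.{u, v}) :
    Cfsg.Agent.H786.FC.StmtBC4nK.{u, v} false :=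
  stmtBC4nK_false_of (fun K _ _ V _ _ _ b _ => hPar K V b) (fun K _ _ V _ _ _ b _ => hC1 K V b)

end Cfsg.Agent.H976.FC
end
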